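import Groth.Agent.NeutralSchLib.Conj
import Groth.Agent.TwConstLib.Etale

/-!
# Connected components of group schemes over one-point bases
-/

set_option autoImplicit false
set_option backward.isDefEq.respectTransparency false

noncomputable section

universe u

open CategoryTheory CategoryTheory.Limits MonoidalCategory CartesianMonoidalCategory AlgebraicGeometry
open scoped MonObj
open Groth.Agent.HomogDense Groth.Agent.GrpField

namespace Groth.Agent.NeutralSch

theorem subsingleton_spec (A : Type u) [CommRing A] [IsArtinianRing A] [IsLocalRing A] :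
    Subsingleton ↥(Spec (CommRingCat.of A)) := by
  refine ⟨fun a b => ?_⟩
  haveI : (a : PrimeSpectrum A).asIdeal.IsMaximal := IsArtinianRing.isMaximal_of_isPrime _
  haveI : (b : PrimeSpectrum A).asIdeal.IsMaximal := IsArtinianRing.isMaximal_of_isPrime _
  exact PrimeSpectrum.ext ((IsLocalRing.eq_maximalIdeal ‹(a : PrimeSpectrum A).asIdeal.IsMaximal›).trans
    (IsLocalRing.eq_maximalIdeal ‹(b : PrimeSpectrum A).asIdeal.IsMaximal›).symm)

variable {S : Scheme.{u}} [Subsingleton ↥S] {G : Over S} [GrpObj G]

theorem connectedComponent_eq_neutralSet (s : S) : connectedComponent (us G s) = SGA3x.neutralSet G := by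
  have hu : G.hom.base ⁻¹' {s} = Set.univ := Set.eq_univ_of_forall fun x => Subsingleton.elim _ _
  rw [← Set.inter_univ (SGA3x.neutralSet G), ← hu, neutralSet_inter_fibre, SecCompLib.comp, hu,
    connectedComponentIn_univ]

/-- The fibre over the point of a one-point base. -/
def homeoFib (s : S) : (Fib G s).left ≃ₜ G.left :=
  (G.hom.fiberHomeo s).trans ((Homeomorph.setCongr (Set.eq_univ_of_forall fun x =>
    (Subsingleton.elim (G.hom.base x) s : G.hom.base x ∈ ({s} : Set S)))).trans (Homeomorph.Set.univ _))

theorem isCompact_connectedComponent [LocallyOfFiniteType G.hom] (g : G.left) : IsCompact (connectedComponent g) := by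
  let s := G.hom.base g
  let e := homeoFib (G := G) s
  haveI : LocallyOfFiniteType (Fib G s).hom :=
    inferInstanceAs (LocallyOfFiniteType (pullback.snd G.hom (S.fromSpecResidueField s)))
  haveI := quasiSeparatedSpace_grp (G := Fib G s)
  obtain ⟨U, hU, hgU, -⟩ := exists_isAffineOpen_mem_and_subset (X := (Fib G s).left) (x := e.symm g) (U := ⊤) trivial
  have hclo := isClopen_compsMeeting (GrpShear.mulAction (Fib G s)) surjective_mulAction_shear U hU.isCompact
  have hk := (isOpen_compsMeeting_and_compact (GrpShear.mulAction (Fib G s)) surjective_mulAction_shear U).2 hU.isCompact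
  have hmem : g ∈ e '' compsMeeting (U : Set (Fib G s).left) :=
    ⟨e.symm g, fun ξ _ hs => hs.mem_open U.2 hgU, e.apply_symm_apply g⟩
  exact (hk.image e.continuous).of_isClosed_subset isClosed_connectedComponent
    (IsClopen.connectedComponent_subset ⟨e.isClosedMap _ hclo.1, e.isOpenMap _ hclo.2⟩ hmem)

end Groth.Agent.NeutralSch
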