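import Groth.Agent.GrpFieldLib.Comps
import Groth.Agent.SecCompLib.Univ
import Groth.Agent.SecNhdLib.Nhd
import Groth.Agent.HomogSepLib.Irr
import Groth.Agent.FibDimLib.Semicont
import Groth.Agent.FibDimLib.SchemeInv
import Groth.Prelude.Def_SGA3x

/-!
# Neutral components of the fibres of a group scheme
-/

set_option autoImplicit false
set_option backward.isDefEq.respectTransparency false
set_option maxHeartbeats 400000

noncomputable section

universe u

open CategoryTheory CategoryTheory.Limits MonoidalCategory CartesianMonoidalCategory AlgebraicGeometry Topology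
open scoped MonObj
open Groth.Agent.HomogDense Groth.Agent.GrpField

namespace Groth.Agent.NeutralSch

variable {S : Scheme.{u}} (G : Over S) [GrpObj G]

/-- The unit section. -/
abbrev us : S ⟶ G.left := (η[G] : 𝟙_ (Over S) ⟶ G).left

theorem us_fac : us G ≫ G.hom = 𝟙 S := Over.w η[G]

/-- The fibre as a group scheme over the residue field. -/
abbrev Fib (s : S) : Over (Spec (CommRingCat.of (S.residueField s))) := Red.bc (S.fromSpecResidueField s) G

theorem bc_unit_fst {S' : Scheme.{u}} (f : S' ⟶ S) :
    (η[Red.bc f G]).left ≫ pullback.fst G.hom f = f ≫ us G := by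
  change ((Functor.LaxMonoidal.ε (Over.pullback f)) ≫ (Over.pullback f).map η[G]).left ≫ _ = _
  rw [Over.comp_left, Category.assoc]
  simp only [Over.pullback_map_left, pullback.lift_fst]
  have h := Over.w (Functor.LaxMonoidal.ε (Over.pullback f))
  rw [← Category.assoc]
  congr 1
  have h2 : pullback.fst (𝟙_ (Over S)).hom f = pullback.snd (𝟙_ (Over S)).hom f ≫ f := by
    rw [← pullback.condition]
    exact (Category.comp_id _).symm
  rw [h2, ← Category.assoc]
  exact (congrArg (· ≫ f) h).trans (Category.id_comp _)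

theorem fst_unitPt (s : S) : pullback.fst G.hom (S.fromSpecResidueField s) (unitPt (Fib G s)) = us G s := by
  unfold unitPt
  refine (Scheme.Hom.comp_apply _ _ _).symm.trans ?_
  rw [bc_unit_fst G (S.fromSpecResidueField s)]
  exact congrArg (us G) (Scheme.fromSpecResidueField_apply s _)

/-- The neutral component of a fibre is the image of the neutral component of the fibre group. -/
theorem image_Z0 (s : S) :
    pullback.fst G.hom (S.fromSpecResidueField s) '' Z0 (Fib G s) = SecCompLib.comp G.hom (us G) s := by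
  rw [← connectedComponent_unit, ← connectedComponentIn_univ]
  refine (SecNhdLib.image_connectedComponentIn (G.hom.fiberι s).isEmbedding (Set.mem_univ _)).trans ?_
  rw [Set.image_univ]
  exact congrArg₂ connectedComponentIn (G.hom.range_fiberι s) (fst_unitPt G s)

theorem geomIrred (s : S) : SecCompLib.GeomIrred G.hom (us G) s := by
  intro K _ _
  letI : Algebra (S.residueField s) K := ‹_›
  have e : (G.hom.fiberι s).base ⁻¹' SecCompLib.comp G.hom (us G) s = Z0 (Fib G s) := by
    rw [← image_Z0]
    exact Set.preimage_image_eq _ (G.hom.fiberι s).isEmbedding.injective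
  refine (congrArg (fun Z => IsIrreducible ((FBase.bcπ (G.hom.fiberToSpecResidueField s) K).base ⁻¹' Z)) e).mpr ?_
  let t := Spec.map (CommRingCat.ofHom (algebraMap (S.residueField s) K))
  obtain ⟨θ, hθ, hθ'⟩ := exists_top (G := Fib G s) (T := Over.mk t) (fieldPt_mk t)
  have : (fst (Fib G s) (Over.mk t)).left ⁻¹' Z0 (Fib G s) = closure {θ} :=
    Set.ext fun w => (hθ' w).trans specializes_iff_mem_closure
  exact (congrArg IsIrreducible this).mpr isIrreducible_singleton.closure

theorem isIrreducible_comp (s : S) : IsIrreducible (SecCompLib.comp G.hom (us G) s) := (geomIrred G s).isIrreducible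

theorem neutralSet_eq : SGA3x.neutralSet G = MoreMor.sectionComponents G.hom (us G) := by
  ext x
  simp only [SGA3x.neutralSet, Set.mem_iUnion]
  refine ⟨fun ⟨p, hp⟩ => ?_, fun h => ⟨G.hom x, h⟩⟩
  exact ((SecCompLib.mem_comp_iff (f := G.hom) (g := us G) p x).1 hp).1

theorem neutralSet_inter_fibre (s : S) :
    SGA3x.neutralSet G ∩ G.hom.base ⁻¹' {s} = SecCompLib.comp G.hom (us G) s := by
  ext x
  rw [neutralSet_eq, SecCompLib.mem_comp_iff]
  rfl

/-- Each point of a fibre lies on exactly one component of it. -/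
theorem max_unique {x a b : G.left} (ha : G.hom a = G.hom x) (hb : G.hom b = G.hom x)
    (hma : ∀ z, G.hom z = G.hom a → z ⤳ a → z = a) (hmb : ∀ z, G.hom z = G.hom b → z ⤳ b → z = b)
    (hax : a ⤳ x) (hbx : b ⤳ x) : a = b := by
  let fι := G.hom.fiberι (G.hom x)
  have hmem : ∀ c, G.hom c = G.hom x → ∃ c', fι c' = c := fun c hc => (G.hom.range_fiberι _).ge hc
  have hπ : ∀ z, G.hom (fι z) = G.hom x := fun z => (G.hom.range_fiberι _).le ⟨z, rfl⟩
  obtain ⟨a', rfl⟩ := hmem a ha
  obtain ⟨b', rfl⟩ := hmem b hb
  obtain ⟨x', hx'⟩ := hmem x rfl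
  have hax' : fι a' ⤳ fι x' := hax.trans (specializes_of_eq hx'.symm)
  have hbx' : fι b' ⤳ fι x' := hbx.trans (specializes_of_eq hx'.symm)
  refine congrArg fι (uniqAt_grp (G := Fib G (G.hom x)) x' a' b' (fun z hz => fι.isEmbedding.injective ?_)
    (fun z hz => fι.isEmbedding.injective ?_) ?_ ?_)
  · exact hma _ ((hπ z).trans ha.symm) (hz.map fι.continuous)
  · exact hmb _ ((hπ z).trans hb.symm) (hz.map fι.continuous)
  · exact fι.isEmbedding.isInducing.specializes_iff.1 hax'
  · exact fι.isEmbedding.isInducing.specializes_iff.1 hbx'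

variable [LocallyOfFiniteType G.hom]

theorem localDim_homeo {α β : Type*} [TopologicalSpace α] [TopologicalSpace β] (φ : α ≃ₜ β) (a : α) :
    FlatMor.localDim β (φ a) = FlatMor.localDim α a :=
  FibDimLib.localDim_eq_of_isOpenEmbedding φ.isOpenEmbedding a

/-- Every point of a fibre specializes inside it to a point whose fibre dimension is that of the unit. -/
theorem exists_specializes_dim_eq (x : G.left) : ∃ x', x ⤳ x' ∧ G.hom x' = G.hom x ∧
    FlatMor.fibreDimAt G.hom x' = FlatMor.fibreDimAt G.hom (us G (G.hom x)) := by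
  let s := G.hom x
  let K : Type u := AlgebraicClosure (S.residueField s)
  let t : Spec (CommRingCat.of K) ⟶ S :=
    Spec.map (CommRingCat.ofHom (algebraMap (S.residueField s) K)) ≫ S.fromSpecResidueField s
  let GK := Red.bc t G
  haveI : LocallyOfFiniteType GK.hom := inferInstanceAs (LocallyOfFiniteType (pullback.snd G.hom t))
  haveI : JacobsonSpace GK.left := LocallyOfFiniteType.jacobsonSpace GK.hom
  have ht : ∀ q, t q = s := fun q => by
    rw [Scheme.Hom.comp_apply]
    exact Scheme.fromSpecResidueField_apply _ _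
  haveI : JacobsonSpace ↥(pullback G.hom t) := ‹JacobsonSpace GK.left›
  obtain ⟨w₀, hw₀, -⟩ := Scheme.Pullback.exists_preimage_pullback (f := G.hom) (g := t) x
    (IsLocalRing.closedPoint K : PrimeSpectrum K) (ht _).symm
  obtain ⟨w, hwcl, hw⟩ := nonempty_inter_closedPoints (Z := closure {w₀})
    ⟨w₀, subset_closure rfl⟩ (isClosed_closure.isLocallyClosed)
  haveI : Subsingleton ↥(Spec (CommRingCat.of K)) := inferInstanceAs (Subsingleton (PrimeSpectrum K))
  haveI : Subsingleton ↥(𝟙_ (Over (Spec (CommRingCat.of K)))).left := inferInstanceAs (Subsingleton (PrimeSpectrum K))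
  let pe : ↥(Spec (CommRingCat.of K)) := (IsLocalRing.closedPoint K : PrimeSpectrum K)
  let e : GK.left := η[GK].left pe
  have he : IsClosed {e} := by
    rw [show ({e} : Set GK.left) = Set.range η[GK].left from Set.ext fun z =>
      ⟨fun hz => ⟨pe, hz.symm⟩, fun ⟨q, hq⟩ => hq ▸ congrArg _ (Subsingleton.elim q pe)⟩]
    haveI : IsClosedImmersion η[GK].left := isClosedImmersion_of_comp_eq_id GK.hom η[GK].left (Over.w η[GK])
    exact η[GK].left.isClosedEmbedding.isClosed_range
  obtain ⟨φ, hφ⟩ := HomogSep.exists_homeo (G := GK) e w he hw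
  refine ⟨pullback.fst G.hom t w, ?_, ?_, ?_⟩
  · exact hw₀ ▸ (specializes_iff_mem_closure.2 hwcl).map (pullback.fst G.hom t).continuous
  · rw [← Scheme.Hom.comp_apply, pullback.condition, Scheme.Hom.comp_apply]
    exact ht _
  · have sq := IsPullback.of_hasPullback G.hom t
    have hu : pullback.fst G.hom t e = us G s := by
      show pullback.fst G.hom t (η[GK].left pe) = _
      rw [← Scheme.Hom.comp_apply]
      refine (congrArg (fun m => m pe) (bc_unit_fst G t)).trans ?_
      exact congrArg (us G) (ht pe)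
    rw [← hu, ← FibDimLib.fibreDimAt_baseChange sq, ← FibDimLib.fibreDimAt_baseChange sq]
    have key : ∀ z : GK.left, FlatMor.fibreDimAt GK.hom z = FlatMor.localDim GK.left z := fun z => by
      let fι := GK.hom.fiberι (GK.hom z)
      have hsur : Function.Surjective fι := fun y =>
        (GK.hom.range_fiberι _).ge (show GK.hom y = GK.hom z from Subsingleton.elim _ _)
      have := localDim_homeo (fι.isEmbedding.toHomeomorphOfSurjective hsur) (GK.hom.asFiber z)
      rw [FlatMor.fibreDimAt, ← this]
      exact congrArg _ (GK.hom.fiberι_asFiber z)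
    rw [show FlatMor.fibreDimAt (pullback.snd G.hom t) w = _ from key w,
      show FlatMor.fibreDimAt (pullback.snd G.hom t) e = _ from key e, ← hφ, localDim_homeo]

/-- The dimension of a fibre at any of its points is its dimension at the unit. -/
theorem fibreDimAt_eq (x : G.left) :
    FlatMor.fibreDimAt G.hom x = FlatMor.fibreDimAt G.hom (us G (G.hom x)) := by
  obtain ⟨x', hx', hfx', hd⟩ := exists_specializes_dim_eq G x
  refine le_antisymm (hd ▸ FibDimLib.fibreDimAt_le_of_specializes G.hom hx') ?_
  obtain ⟨ξ, hξ, hξx, hξm, -⟩ := UOpenLib.exists_max_fibreDimAt G.hom x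
  obtain ⟨x₀, hx₀, hx₀x, hx₀m, hd₀⟩ := UOpenLib.exists_max_fibreDimAt G.hom x'
  have : x₀ = ξ := max_unique G (x := x') hx₀ (hξ.trans hfx'.symm)
    (fun z h1 h2 => hx₀m z h1 (specializes_iff_mem_closure.1 h2))
    (fun z h1 h2 => hξm z h1 (specializes_iff_mem_closure.1 h2)) hx₀x (hξx.trans hx')
  rw [← hd, ← hd₀, this]
  exact UOpenLib.fibreClosureDim_le_fibreDimAt G.hom hξx

theorem fibreDimAt_eq_comp_dim (x : G.left) :
    FlatMor.fibreDimAt G.hom x = topologicalKrullDim ↥(SecCompLib.comp G.hom (us G) (G.hom x)) := by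
  rw [fibreDimAt_eq, SecCompLib.fibreDimAt_section (us_fac G) (isIrreducible_comp G _)]

/-- A fibre has the dimension of its neutral component. -/
theorem dim_fibre_eq (s : S) :
    topologicalKrullDim ↥(G.hom.base ⁻¹' {s}) = topologicalKrullDim ↥(SecCompLib.comp G.hom (us G) s) := by
  refine le_antisymm ?_
    (IsEmbedding.inclusion (connectedComponentIn_subset _ _)).isInducing.topologicalKrullDim_le
  rw [← IsHomeomorph.topologicalKrullDim_eq _ (G.hom.fiberHomeo s).isHomeomorph,
    FibDimLib.topologicalKrullDim_fiber_le_iff]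
  intro x hx
  rw [fibreDimAt_eq_comp_dim]
  exact le_of_eq (by rw [show G.hom x = s from hx])

end Groth.Agent.NeutralSch
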