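import Groth.Agent.NeutralSchLib.Global

/-!
# Open subgroups and groups over fields
-/

set_option autoImplicit false
set_option backward.isDefEq.respectTransparency false
set_option maxHeartbeats 400000

noncomputable section

universe u

open CategoryTheory CategoryTheory.Limits MonoidalCategory CartesianMonoidalCategory AlgebraicGeometry Topology
open scoped MonObj
open Groth.Agent.HomogDense Groth.Agent.GrpField

namespace Groth.Agent.NeutralSch

variable {S : Scheme.{u}} {G H : Over S} [GrpObj G] [GrpObj H] (i : H ⟶ G) [IsMonHom i] [IsOpenImmersion i.left]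

theorem us_hom : us H ≫ i.left = us G := by
  show (η[H]).left ≫ i.left = _
  rw [← Over.comp_left, IsMonHom.one_hom]

theorem neutralSet_subset_range : SGA3x.neutralSet G ⊆ Set.range i.left := by
  intro x hx
  obtain ⟨z, h1, -, h3, -, h5⟩ := exists_mul (G := G) hx i.left.isOpenEmbedding.isOpen_range
    ⟨us H (G.hom x), by rw [← Scheme.Hom.comp_apply, us_hom]⟩
  obtain ⟨v, hv⟩ := GrpField.exists_preimage_tensor i i z h1 h3
  refine ⟨μ[H].left v, ?_⟩
  rw [← Scheme.Hom.comp_apply, ← Over.comp_left, IsMonHom.mul_hom, Over.comp_left, Scheme.Hom.comp_apply, hv, h5]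

theorem image_neutralSet : i.left '' SGA3x.neutralSet H = SGA3x.neutralSet G := by
  have hu : ∀ s, i.left (us H s) = us G s := fun s => by rw [← Scheme.Hom.comp_apply, us_hom]
  have hπ : ∀ v, G.hom (i.left v) = H.hom v := fun v => by rw [← Scheme.Hom.comp_apply, Over.w]
  refine Set.Subset.antisymm ?_ fun x hx => ?_
  · rintro _ ⟨v, hv, rfl⟩
    have hv' : v ∈ SecCompLib.comp H.hom (us H) (H.hom v) := by
      rw [← neutralSet_inter_fibre]; exact ⟨hv, rfl⟩
    have h := (isPreconnected_connectedComponentIn.image i.left i.left.continuous.continuousOn).subset_connectedComponentIn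
      (F := G.hom.base ⁻¹' {H.hom v}) ⟨_, SecCompLib.section_mem (us_fac H) (H.hom v), hu _⟩ (by
        rintro _ ⟨w, hw, rfl⟩
        exact (hπ w).trans (SecCompLib.map_of_mem hw))
    exact ((neutralSet_inter_fibre G (H.hom v)).ge (h ⟨v, hv', rfl⟩)).1
  · obtain ⟨v, rfl⟩ := neutralSet_subset_range i hx
    refine ⟨v, ?_, rfl⟩
    have hsub : i.left ⁻¹' SecCompLib.comp G.hom (us G) (H.hom v) ⊆ SecCompLib.comp H.hom (us H) (H.hom v) := by
      refine (IsPreirreducible.preimage (isIrreducible_comp G _).2 i.left.isOpenEmbedding).isPreconnected.subset_connectedComponentIn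
        (show i.left (us H (H.hom v)) ∈ _ by rw [hu]; exact SecCompLib.section_mem (us_fac G) _) fun w hw => ?_
      exact (hπ w).symm.trans (SecCompLib.map_of_mem hw)
    have := hsub (show i.left v ∈ SecCompLib.comp G.hom (us G) (H.hom v) by
      rw [← neutralSet_inter_fibre]; exact ⟨hx, hπ v⟩)
    exact ((neutralSet_inter_fibre H (H.hom v)).ge this).1

theorem localDim_eq_fibreDimAt {k : Type u} [Field k] (X : Over (Spec (CommRingCat.of k))) (z : X.left) :
    FlatMor.fibreDimAt X.hom z = FlatMor.localDim X.left z := by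
  haveI : Subsingleton ↥(Spec (CommRingCat.of k)) := inferInstanceAs (Subsingleton (PrimeSpectrum k))
  let fι := X.hom.fiberι (X.hom z)
  have hsur : Function.Surjective fι := fun y =>
    (X.hom.range_fiberι _).ge (show X.hom y = X.hom z from Subsingleton.elim _ _)
  have := localDim_homeo (fι.isEmbedding.toHomeomorphOfSurjective hsur) (X.hom.asFiber z)
  rw [FlatMor.fibreDimAt, ← this]
  exact congrArg _ (X.hom.fiberι_asFiber z)

theorem localDim_eq_dim {k : Type u} [Field k] {X : Over (Spec (CommRingCat.of k))} [GrpObj X]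
    [LocallyOfFiniteType X.hom] (z : X.left) : FlatMor.localDim X.left z = topologicalKrullDim X.left := by
  haveI : Subsingleton ↥(Spec (CommRingCat.of k)) := inferInstanceAs (Subsingleton (PrimeSpectrum k))
  rw [← localDim_eq_fibreDimAt, fibreDimAt_eq_comp_dim, ← dim_fibre_eq]
  have h : X.hom.base ⁻¹' {X.hom z} = Set.univ := Set.eq_univ_of_forall fun x => Subsingleton.elim _ _
  rw [h]
  exact IsHomeomorph.topologicalKrullDim_eq _ (Homeomorph.Set.univ X.left).isHomeomorph

theorem dim_component_eq {k : Type u} [Field k] {X : Over (Spec (CommRingCat.of k))} [GrpObj X]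
    [LocallyOfFiniteType X.hom] {Z : Set X.left} (hZ : Z ∈ irreducibleComponents X.left) :
    topologicalKrullDim ↥Z = topologicalKrullDim X.left := by
  haveI : Subsingleton ↥(Spec (CommRingCat.of k)) := inferInstanceAs (Subsingleton (PrimeSpectrum k))
  have hg := hZ.1.isGenericPoint_genericPoint (isClosed_of_mem_irreducibleComponents _ hZ)
  obtain ⟨x₀, -, hx₀, -, hd⟩ := UOpenLib.exists_max_fibreDimAt X.hom hZ.1.genericPoint
  have hx₀g : x₀ = hZ.1.genericPoint := by
    have h1 : closure {x₀} ⊆ Z :=
      hZ.2 isIrreducible_singleton.closure (hg.def ▸ closure_minimal (Set.singleton_subset_iff.2 hx₀.mem_closure) isClosed_closure)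
    exact (hx₀.antisymm (hg.specializes (h1 (subset_closure rfl)))).eq
  subst hx₀g
  have hu : X.hom.base ⁻¹' {X.hom.base hZ.1.genericPoint} = Set.univ :=
    Set.eq_univ_of_forall fun x => Subsingleton.elim _ _
  rw [localDim_eq_fibreDimAt, localDim_eq_dim, UOpenLib.fibreClosureDim_eq_inter, hu, Set.inter_univ] at hd
  rw [← hd, hg.def]

end Groth.Agent.NeutralSch
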