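import Groth.Agent.NeutralSchLib.Chart

/-!
# Global properties of the union of neutral components
-/

set_option autoImplicit false
set_option backward.isDefEq.respectTransparency false
set_option maxHeartbeats 400000

noncomputable section

universe u

open CategoryTheory CategoryTheory.Limits MonoidalCategory CartesianMonoidalCategory AlgebraicGeometry Topology
open scoped MonObj
open Groth.Agent.HomogDense Groth.Agent.GrpField

namespace Groth.Agent.NeutralSch

variable {S : Scheme.{u}} {G : Over S} [GrpObj G]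

/-- The generating morphism attached to an open around the unit section. -/
theorem exists_compact_generators {W : G.left.Opens} {V : S.Opens} (hV : IsAffineOpen V) (hW : IsAffineOpen W)
    (hWV : W ≤ G.hom ⁻¹ᵁ V) : ∃ U : (G ⊗ G).left.Opens, IsAffineOpen U ∧
      (U : Set ↥(G ⊗ G).left) = (fst G G).left ⁻¹' W ∩ (snd G G).left ⁻¹' W := by
  haveI : IsAffine V.toScheme := hV
  haveI : IsAffine W.toScheme := hW
  let a : W.toScheme ⟶ V.toScheme := G.hom.resLE V W hWV
  have ha : a ≫ V.ι = W.ι ≫ G.hom := Scheme.Hom.resLE_comp_ι _ _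
  let j : pullback a a ⟶ pullback G.hom G.hom := pullback.map _ _ _ _ W.ι W.ι V.ι ha ha
  haveI : IsOpenImmersion j := inferInstanceAs (IsOpenImmersion (pullback.map _ _ _ _ W.ι W.ι V.ι _ _))
  refine ⟨j.opensRange, isAffineOpen_opensRange j, ?_⟩
  show Set.range j = _
  rw [Scheme.Pullback.range_map, Scheme.Opens.range_ι]
  rfl

/-- Over an affine open of the base the neutral components lie in a compact set. -/
theorem exists_compact_local (s : S) : ∃ (V : S.Opens) (C : Set G.left), IsAffineOpen V ∧ s ∈ V ∧ IsCompact C ∧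
    SGA3x.neutralSet G ∩ G.hom.base ⁻¹' V ⊆ C := by
  obtain ⟨V, W, hV, hs, hW, hWV, hu⟩ := exists_chart G s
  obtain ⟨U, hU, hUeq⟩ := exists_compact_generators (G := G) hV hW hWV
  refine ⟨V, μ[G].left '' U, hV, hs, hU.isCompact.image μ[G].left.continuous, fun x ⟨hx, hxV⟩ => ?_⟩
  obtain ⟨z, h1, -, h3, -, h5⟩ := exists_mul (G := G) hx W.2 (hu _ hxV)
  exact ⟨z, hUeq ▸ ⟨h1, h3⟩, h5⟩

theorem exists_qc_open [CompactSpace S] :
    ∃ U : G.left.Opens, IsCompact (U : Set G.left) ∧ SGA3x.neutralSet G ⊆ U := by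
  choose V C hV hs hC hsub using exists_compact_local (G := G)
  obtain ⟨t, ht⟩ := isCompact_univ.elim_finite_subcover (fun s => (V s : Set S)) (fun s => (V s).2)
    (fun s _ => Set.mem_iUnion.2 ⟨s, hs s⟩)
  have hK : IsCompact (⋃ s ∈ t, C s) := t.isCompact_biUnion fun s _ => hC s
  have hG0 : SGA3x.neutralSet G ⊆ ⋃ s ∈ t, C s := fun x hx => by
    obtain ⟨s, hs', hxs⟩ := Set.mem_iUnion₂.1 (ht (Set.mem_univ (G.hom.base x)))
    exact Set.mem_iUnion₂.2 ⟨s, hs', hsub s ⟨hx, hxs⟩⟩
  choose A hA hxA _ using fun x : G.left =>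
    exists_isAffineOpen_mem_and_subset (X := G.left) (x := x) (U := ⊤) trivial
  obtain ⟨t', ht'⟩ := hK.elim_finite_subcover (fun x => (A x : Set G.left)) (fun x => (A x).2)
    (fun x _ => Set.mem_iUnion.2 ⟨x, hxA x⟩)
  refine ⟨⨆ x ∈ t', A x, ?_, fun x hx => ?_⟩
  · simp only [TopologicalSpace.Opens.coe_iSup]
    exact t'.isCompact_biUnion fun x _ => (hA x).isCompact
  · simp only [TopologicalSpace.Opens.coe_iSup]
    exact ht' (hG0 hx)

theorem quasiCompact_of_eq_univ (h : SGA3x.neutralSet G = Set.univ) : QuasiCompact G.hom := by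
  rw [quasiCompact_iff_forall_isAffineOpen]
  intro V hV
  haveI : IsAffine V.toScheme := hV
  obtain ⟨U, hU, hsub⟩ := exists_qc_open (G := Red.bc V.ι G)
  rw [neutralSet_bc, h, Set.preimage_univ] at hsub
  have hc : IsCompact (Set.univ : Set ↥(pullback G.hom V.ι)) := (Set.univ_subset_iff.1 hsub) ▸ hU
  have h2 := hc.image (pullback.fst G.hom V.ι).continuous
  rw [Set.image_univ, IsOpenImmersion.range_pullbackFst] at h2
  rwa [Scheme.Opens.opensRange_ι] at h2

theorem mu_lfp [LocallyOfFinitePresentation G.hom] : LocallyOfFinitePresentation μ[G].left :=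
  GrpShear.act_prop (GrpShear.mulAction G) @LocallyOfFinitePresentation inferInstance

variable [LocallyOfFinitePresentation G.hom]

theorem isIndConstructible_of_affine [IsAffine S] {W : G.left.Opens} (hW : IsAffineOpen W)
    (hu : ∀ t, us G t ∈ W) : ProCons.IsIndConstructible (SGA3x.neutralSet G) := by
  rw [neutralSet_eq_image G W hu]
  haveI := mu_lfp (G := G)
  exact ProConsLib.isIndConstructible_image _ (isIndConstructible_inter
    (ProConsLib.isIndConstructible_preimage _ (isIndConstructible_chart G W hu hW))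
    (ProConsLib.isIndConstructible_preimage _ (isIndConstructible_chart G W hu hW)))

theorem isIndConstructible_neutralSet : ProCons.IsIndConstructible (SGA3x.neutralSet G) := by
  choose V hV hs W hW hu using exists_chart_bc G
  have key : SGA3x.neutralSet G =
      ⋃ s : S, (pullback.fst G.hom (V s).ι).base '' SGA3x.neutralSet (Red.bc (V s).ι G) := by
    refine Set.Subset.antisymm (fun x hx => Set.mem_iUnion.2 ⟨G.hom x, ?_⟩) ?_
    · obtain ⟨w, hw⟩ : x ∈ Set.range (pullback.fst G.hom (V (G.hom x)).ι) := by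
        rw [IsOpenImmersion.range_pullbackFst, Scheme.Opens.opensRange_ι]
        exact hs (G.hom x)
      exact ⟨w, by rw [neutralSet_bc]; exact (congrArg (· ∈ SGA3x.neutralSet G) hw).mpr hx, hw⟩
    · simp only [Set.iUnion_subset_iff, Set.image_subset_iff]
      exact fun s => (neutralSet_bc (G := G) (V s).ι).le
  rw [key]
  refine isIndConstructible_iUnion fun s => ?_
  haveI : IsAffine (V s).toScheme := hV s
  haveI : LocallyOfFinitePresentation (Red.bc (V s).ι G).hom :=
    inferInstanceAs (LocallyOfFinitePresentation (pullback.snd G.hom (V s).ι))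
  exact ProConsLib.isIndConstructible_image _ (isIndConstructible_of_affine (hW s) (hu s))

theorem isProConstructible_of_affine [IsAffine S] [QuasiSeparated G.hom] {W : G.left.Opens} (hW : IsAffineOpen W)
    (hu : ∀ t, us G t ∈ W) : ProCons.IsProConstructible (SGA3x.neutralSet G) := by
  obtain ⟨U, hU, hUeq⟩ := exists_compact_generators (G := G) (isAffineOpen_top S) hW le_top
  haveI : QuasiSeparatedSpace G.left := quasiSeparatedSpace_of_quasiSeparated G.hom
  haveI : IsAffine U.toScheme := hU
  have hC := isLocallyConstructible_chart G W hu hW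
  let p₁ : U.toScheme ⟶ W.toScheme := IsOpenImmersion.lift W.ι (U.ι ≫ (fst G G).left) (by
    rw [Scheme.Opens.range_ι]; rintro _ ⟨v, rfl⟩; exact (hUeq.le v.2).1)
  let p₂ : U.toScheme ⟶ W.toScheme := IsOpenImmersion.lift W.ι (U.ι ≫ (snd G G).left) (by
    rw [Scheme.Opens.range_ι]; rintro _ ⟨v, rfl⟩; exact (hUeq.le v.2).2)
  have hp₁ : ∀ v, W.ι (p₁ v) = (fst G G).left (U.ι v) := fun v => by
    rw [← Scheme.Hom.comp_apply, IsOpenImmersion.lift_fac, Scheme.Hom.comp_apply]
  have hp₂ : ∀ v, W.ι (p₂ v) = (snd G G).left (U.ι v) := fun v => by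
    rw [← Scheme.Hom.comp_apply, IsOpenImmersion.lift_fac, Scheme.Hom.comp_apply]
  have key : SGA3x.neutralSet G = (U.ι ≫ μ[G].left).base ''
      (p₁ ⁻¹' (W.ι ⁻¹' SGA3x.neutralSet G) ∩ p₂ ⁻¹' (W.ι ⁻¹' SGA3x.neutralSet G)) := by
    refine Set.Subset.antisymm (fun x hx => ?_) ?_
    · obtain ⟨z, h1, h2, h3, h4, h5⟩ := exists_mul (G := G) hx W.2 (hu _)
      obtain ⟨v, rfl⟩ : z ∈ Set.range U.ι := (Scheme.Opens.range_ι U).ge (hUeq ▸ ⟨h1, h3⟩)
      exact ⟨v, ⟨show W.ι (p₁ v) ∈ _ by rw [hp₁]; exact h2, show W.ι (p₂ v) ∈ _ by rw [hp₂]; exact h4⟩,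
        (Scheme.Hom.comp_apply _ _ _).trans h5⟩
    · rintro _ ⟨v, ⟨h1, h2⟩, rfl⟩
      rw [Scheme.Hom.comp_apply]
      exact mem_of_mu _ (hp₁ v ▸ h1) (hp₂ v ▸ h2)
  rw [key]
  haveI : QuasiCompact (U.ι ≫ μ[G].left) := inferInstance
  refine ProConsLib.isProConstructible_image _ (ProConsLib.isProConstructible_iff_affine.2 fun A hA => ?_)
  rw [Set.preimage_inter]
  exact @IsClosed.inter _ _ _ (constructibleTopology A.toScheme)
    (ProConsLib.isProConstructible_iff_affine.1 (ProConsLib.isProConstructible_preimage p₁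
      (ProConsLib.isProConstructible_of_isLocallyConstructible hC)) A hA)
    (ProConsLib.isProConstructible_iff_affine.1 (ProConsLib.isProConstructible_preimage p₂
      (ProConsLib.isProConstructible_of_isLocallyConstructible hC)) A hA)

theorem isLocallyConstructible_neutralSet [QuasiSeparated G.hom] :
    IsLocallyConstructible (SGA3x.neutralSet G) := by
  refine ProConsLib.isLocallyConstructible_iff_ind_and_pro.2 ⟨isIndConstructible_neutralSet, ?_⟩
  refine ProConsLib.isProConstructible_of_forall_exists fun x => ?_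
  obtain ⟨V, hV, hs, W, hW, hu⟩ := exists_chart_bc G (G.hom x)
  haveI : IsAffine V.toScheme := hV
  haveI : LocallyOfFinitePresentation (Red.bc V.ι G).hom :=
    inferInstanceAs (LocallyOfFinitePresentation (pullback.snd G.hom V.ι))
  haveI : QuasiSeparated (Red.bc V.ι G).hom := inferInstanceAs (QuasiSeparated (pullback.snd G.hom V.ι))
  have h := isProConstructible_of_affine (G := Red.bc V.ι G) hW hu
  rw [neutralSet_bc] at h
  let m := pullback.fst G.hom V.ι
  refine ⟨Set.range m, m.isOpenEmbedding.isOpen_range, ?_, ?_⟩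
  · rw [IsOpenImmersion.range_pullbackFst, Scheme.Opens.opensRange_ι]
    exact hs
  · let e := m.isOpenEmbedding.isEmbedding.toHomeomorph
    have := ProConsLib.isProConstructible_preimage_of_isOpenEmbedding e.symm.isOpenEmbedding h
    rw [← Set.preimage_comp] at this
    convert this using 2
    exact funext fun z => (congrArg Subtype.val (e.apply_symm_apply z)).symm

theorem isConstructible_neutralSet [QuasiSeparated G.hom] [CompactSpace S] [QuasiSeparatedSpace S] :
    IsConstructible (SGA3x.neutralSet G) := by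
  obtain ⟨U, hU, hsub⟩ := exists_qc_open (G := G)
  haveI : QuasiSeparatedSpace G.left := quasiSeparatedSpace_of_quasiSeparated G.hom
  haveI : CompactSpace U.toScheme := isCompact_iff_compactSpace.1 hU
  haveI : QuasiSeparatedSpace U.toScheme := QuasiSeparatedSpace.of_isOpenEmbedding U.ι.isOpenEmbedding
  have h := ((isLocallyConstructible_neutralSet (G := G)).preimage_of_isOpenEmbedding
    U.ι.isOpenEmbedding).isConstructible
  have h2 := h.image_of_isOpenEmbedding U.ι.isOpenEmbedding (by
    rw [Scheme.Opens.range_ι]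
    exact hU.isRetrocompact U.2)
  rwa [Set.image_preimage_eq_of_subset (by rwa [Scheme.Opens.range_ι])] at h2

end Groth.Agent.NeutralSch
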