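import Mathlib
import Groth.Agent.NeutralSchLib.Global
import Groth.Agent.NoethApproxLib.Proper
import Groth.Agent.FactorRangeLib.Sch

/-!
# Representability of the neutral component forces openness
-/

set_option autoImplicit false
set_option backward.isDefEq.respectTransparency false

noncomputable section

universe u

open CategoryTheory CategoryTheory.Limits MonoidalCategory CartesianMonoidalCategory AlgebraicGeometry Topology
open scoped MonObj

namespace Groth.Agent.NeutralSch

variable {S : Scheme.{u}} {G : Over S} [GrpObj G] [LocallyOfFinitePresentation G.hom]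

theorem isCompact_neutralSet_of_affine [IsAffine S] {W : G.left.Opens} (hW : IsAffineOpen W)
    (hu : ∀ t, us G t ∈ W) : IsCompact (SGA3x.neutralSet G) := by
  obtain ⟨U, hU, hUeq⟩ := exists_compact_generators (G := G) (isAffineOpen_top S) hW le_top
  haveI : IsAffine U.toScheme := hU
  haveI : IsAffine W.toScheme := hW
  have hC := (isLocallyConstructible_chart G W hu hW).isConstructible
  let p₁ : U.toScheme ⟶ W.toScheme := IsOpenImmersion.lift W.ι (U.ι ≫ (fst G G).left) (by
    rw [Scheme.Opens.range_ι]; rintro _ ⟨v, rfl⟩; exact (hUeq.le v.2).1)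
  let p₂ : U.toScheme ⟶ W.toScheme := IsOpenImmersion.lift W.ι (U.ι ≫ (snd G G).left) (by
    rw [Scheme.Opens.range_ι]; rintro _ ⟨v, rfl⟩; exact (hUeq.le v.2).2)
  have hp₁ : ∀ v, W.ι (p₁ v) = (fst G G).left (U.ι v) := fun v => by
    rw [← Scheme.Hom.comp_apply, IsOpenImmersion.lift_fac, Scheme.Hom.comp_apply]
  have hp₂ : ∀ v, W.ι (p₂ v) = (snd G G).left (U.ι v) := fun v => by
    rw [← Scheme.Hom.comp_apply, IsOpenImmersion.lift_fac, Scheme.Hom.comp_apply]
  have key : SGA3x.neutralSet G = (U.ι ≫ μ[G].left).base ''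
      (p₁ ⁻¹' (W.ι ⁻¹' SGA3x.neutralSet G) ∩ p₂ ⁻¹' (W.ι ⁻¹' SGA3x.neutralSet G)) := by
    refine Set.Subset.antisymm (fun x hx => ?_) ?_
    · obtain ⟨z, h1, h2, h3, h4, h5⟩ := exists_mul (G := G) hx W.2 (hu _)
      obtain ⟨v, rfl⟩ : z ∈ Set.range U.ι := (Scheme.Opens.range_ι U).ge (hUeq ▸ ⟨h1, h3⟩)
      exact ⟨v, ⟨show W.ι (p₁ v) ∈ _ by rw [hp₁]; exact h2, show W.ι (p₂ v) ∈ _ by rw [hp₂]; exact h4⟩,
        (Scheme.Hom.comp_apply _ _ _).trans h5⟩
    · rintro _ ⟨v, ⟨h1, h2⟩, rfl⟩
      rw [Scheme.Hom.comp_apply]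
      exact mem_of_mu _ (hp₁ v ▸ h1) (hp₂ v ▸ h2)
  rw [key]
  refine IsCompact.image ?_ (U.ι ≫ μ[G].left).continuous
  exact NoethApproxLib.isCompact_of_isConstructible_scheme
    ((p₁.isConstructible_preimage hC).inter (p₂.isConstructible_preimage hC))

/-- If the neutral component is represented by a subfunctor, that is an open immersion with
quasi-compact source over the base. -/
theorem isOpenImmersion_of_represents (G0 : Over S) (i : G0 ⟶ G) [Mono i]
    (hrep : ∀ (T : Over S) (g : T ⟶ G), (∃ z : T ⟶ G0, z ≫ i = g) ↔ Set.range g.left.base ⊆ SGA3x.neutralSet G) :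
    IsOpenImmersion i.left ∧ QuasiCompact G0.hom := by
  obtain ⟨hoi, hr⟩ := FactorRange.isOpenImmersion_of_factor i.left isIndConstructible_neutralSet
    (fun C g hg => by
      obtain ⟨z, hz⟩ := (hrep (Over.mk (g ≫ G.hom)) (Over.homMk g rfl)).2 hg
      exact ⟨z.left, congrArg CommaMorphism.left hz⟩)
    ((hrep G0 i).1 ⟨𝟙 _, Category.id_comp _⟩)
  haveI := hoi
  refine ⟨hoi, ?_⟩
  choose V hV hs W hW hu using exists_chart_bc G
  refine IsZariskiLocalAtTarget.of_iSup_eq_top V
    (top_le_iff.mp fun s _ => TopologicalSpace.Opens.mem_iSup.2 ⟨s, hs s⟩) fun s => ?_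
  haveI : IsAffine (V s).toScheme := hV s
  rw [quasiCompact_iff_compactSpace]
  refine isCompact_iff_compactSpace.1 ?_
  haveI : LocallyOfFinitePresentation (Red.bc (V s).ι G).hom :=
    inferInstanceAs (LocallyOfFinitePresentation (pullback.snd G.hom (V s).ι))
  have h := (isCompact_neutralSet_of_affine (G := Red.bc (V s).ι G) (hW s) (hu s)).image
    (pullback.fst G.hom (V s).ι).continuous
  rw [neutralSet_bc] at h
  have e : i.left.base '' ((G0.hom ⁻¹ᵁ V s : G0.left.Opens) : Set G0.left) =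
      (pullback.fst G.hom (V s).ι).base '' ((pullback.fst G.hom (V s).ι).base ⁻¹' SGA3x.neutralSet G) := by
    rw [Set.image_preimage_eq_inter_range, IsOpenImmersion.range_pullbackFst, Scheme.Opens.opensRange_ι, ← hr,
      Set.inter_comm]
    ext x
    constructor
    · rintro ⟨a, ha, rfl⟩
      refine ⟨?_, a, rfl⟩
      show G.hom.base (i.left.base a) ∈ V s
      rw [← Scheme.Hom.comp_apply, Over.w]
      exact ha
    · rintro ⟨hx, a, rfl⟩
      refine ⟨a, ?_, rfl⟩
      show G0.hom.base a ∈ V s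
      rw [← Over.w i, Scheme.Hom.comp_apply]
      exact hx
  exact i.left.isOpenEmbedding.isEmbedding.isCompact_iff.2 (e ▸ h)

end Groth.Agent.NeutralSch
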