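import Groth.Prelude.Def_Red
import Groth.Prelude.Def_AlgGrp

/-!
# Base change of an action
-/

set_option autoImplicit false

noncomputable section

universe u

open CategoryTheory CategoryTheory.Limits MonoidalCategory CartesianMonoidalCategory AlgebraicGeometry
open Functor.LaxMonoidal
open scoped MonObj

namespace Groth.Agent.NeutralSch

variable {S S' : Scheme.{u}} (f : S' ⟶ S) {G X : Over S} [GrpObj G]

/-- The action obtained by base change. -/
def actBC (a : AlgGrp.Action G X) : AlgGrp.Action (Red.bc f G) (Red.bc f X) where
  act := Functor.LaxMonoidal.μ (Over.pullback f) G X ≫ (Over.pullback f).map a.act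
  one_act := by
    rw [show η[Red.bc f G] = ε (Over.pullback f) ≫ (Over.pullback f).map η[G] from rfl, comp_whiskerRight,
      Category.assoc, μ_natural_left_assoc, ← Functor.map_comp, a.one_act]
    exact (left_unitality (Over.pullback f) X).symm
  mul_act := by
    rw [show μ[Red.bc f G] = Functor.LaxMonoidal.μ (Over.pullback f) G G ≫ (Over.pullback f).map μ[G] from rfl,
      comp_whiskerRight, Category.assoc, μ_natural_left_assoc, ← Functor.map_comp, a.mul_act, Functor.map_comp,
      Functor.map_comp, associativity_assoc, MonoidalCategory.whiskerLeft_comp, Category.assoc,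
      μ_natural_right_assoc]

theorem surjective_map {A B : Over S} (m : A ⟶ B) (hm : Surjective m.left) :
    Surjective ((Over.pullback f).map m).left :=
  MorphismProperty.baseChange_map (P := @Surjective) f m hm

theorem surjective_shear_bc (a : AlgGrp.Action G X) (hΦ : Surjective (lift a.act (snd G X)).left) :
    Surjective (lift (actBC f a).act (snd (Red.bc f G) (Red.bc f X))).left := by
  let F := Over.pullback f
  have e : lift (actBC f a).act (snd (Red.bc f G) (Red.bc f X)) ≫ Functor.LaxMonoidal.μ F X X =
      Functor.LaxMonoidal.μ F G X ≫ F.map (lift a.act (snd G X)) := by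
    rw [← cancel_mono (Functor.OplaxMonoidal.δ F X X)]
    refine CartesianMonoidalCategory.hom_ext _ _ ?_ ?_
    · simp only [Category.assoc, Functor.Monoidal.μ_δ, Category.comp_id, lift_fst]
      simp only [F, actBC, Functor.OplaxMonoidal.δ, Functor.Monoidal.μ_δ, Category.comp_id, Category.assoc]
      simp [← Functor.map_comp]
    · simp only [Category.assoc, Functor.Monoidal.μ_δ, Category.comp_id, lift_snd]
      simp [F, ← Functor.map_comp]
  haveI : Surjective (F.map (lift a.act (snd G X))).left := surjective_map f _ hΦ
  haveI : IsIso (Functor.LaxMonoidal.μ F X X).left :=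
    inferInstanceAs (IsIso ((Over.forget S').map (Functor.LaxMonoidal.μ F X X)))
  haveI : IsIso (Functor.LaxMonoidal.μ F G X).left :=
    inferInstanceAs (IsIso ((Over.forget S').map (Functor.LaxMonoidal.μ F G X)))
  have e2 : lift (actBC f a).act (snd (Red.bc f G) (Red.bc f X)) =
      Functor.LaxMonoidal.μ F G X ≫ F.map (lift a.act (snd G X)) ≫ inv (Functor.LaxMonoidal.μ F X X) := by
    rw [← Category.assoc, ← e, Category.assoc, IsIso.hom_inv_id, Category.comp_id]
  rw [e2, Over.comp_left, Over.comp_left]
  haveI : IsIso (inv (Functor.LaxMonoidal.μ F X X)).left :=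
    inferInstanceAs (IsIso ((Over.forget S').map (inv (Functor.LaxMonoidal.μ F X X))))
  infer_instance

end Groth.Agent.NeutralSch
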