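import Groth.Agent.NeutralSchLib.Fibre
import Groth.Agent.S1324

/-!
# The union of the neutral components: base change, group law, generation
-/

set_option autoImplicit false
set_option backward.isDefEq.respectTransparency false
set_option maxHeartbeats 400000

noncomputable section

universe u

open CategoryTheory CategoryTheory.Limits MonoidalCategory CartesianMonoidalCategory AlgebraicGeometry Topology
open scoped MonObj
open Groth.Agent.HomogDense Groth.Agent.GrpField

namespace Groth.Agent.NeutralSch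

variable {S : Scheme.{u}} {G : Over S} [GrpObj G]

theorem neutralSet_bc {S' : Scheme.{u}} (f : S' ⟶ S) :
    SGA3x.neutralSet (Red.bc f G) = (pullback.fst G.hom f).base ⁻¹' SGA3x.neutralSet G := by
  rw [neutralSet_eq, neutralSet_eq]
  exact Groth.Agent.S1324.result G.hom (us G) (us_fac G) (pullback.snd G.hom f) (pullback.fst G.hom f) f
    (IsPullback.of_hasPullback G.hom f) (us (Red.bc f G)) (us_fac (Red.bc f G)) (bc_unit_fst G f)

theorem neutralSet_field {k : Type u} [Field k] (H : Over (Spec (CommRingCat.of k))) [GrpObj H] :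
    SGA3x.neutralSet H = Z0 H := by
  haveI : Subsingleton ↥(Spec (CommRingCat.of k)) := inferInstanceAs (Subsingleton (PrimeSpectrum k))
  let pt : ↥(Spec (CommRingCat.of k)) := (IsLocalRing.closedPoint k : PrimeSpectrum k)
  have hu : H.hom.base ⁻¹' {pt} = Set.univ := Set.eq_univ_of_forall fun x => Subsingleton.elim _ _
  rw [← Set.inter_univ (SGA3x.neutralSet H), ← hu, neutralSet_inter_fibre, SecCompLib.comp, hu,
    connectedComponentIn_univ, ← connectedComponent_unit]
  rfl

theorem us_mem (s : S) : us G s ∈ SGA3x.neutralSet G := by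
  rw [neutralSet_eq]
  have h := SecCompLib.section_mem (us_fac G) s
  rw [SecCompLib.mem_comp_iff] at h
  exact h.1

theorem one_left_apply {Y : Over S} (y : Y.left) : (1 : Y ⟶ G).left y = us G (Y.hom y) := by
  rw [Hom.one_def, Over.comp_left, Scheme.Hom.comp_apply]
  rfl

/-- Over the spectrum of a field the union of neutral components pulls back to an irreducible component. -/
theorem exists_top {K : Type u} [Field K] (t : Spec (CommRingCat.of K) ⟶ S) :
    ∃ θ : ↥(G ⊗ Over.mk t).left, IsMaxPt θ ∧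
      ∀ w, ((fst G (Over.mk t)).left w ∈ SGA3x.neutralSet G ↔ θ ⤳ w) := by
  obtain ⟨z, hz, -, hZ⟩ := exists_Z0_gen (Red.bc t G)
  refine ⟨z, hz, fun w => ?_⟩
  have e := (neutralSet_bc (G := G) t).symm.trans (neutralSet_field (Red.bc t G))
  rw [hZ] at e
  exact (Set.ext_iff.1 e w).trans specializes_iff_mem_closure.symm

/-- Translation of `G ⊗ T` by a point. -/
def tr {T : Over S} (c : T ⟶ G) : G ⊗ T ≅ G ⊗ T where
  hom := lift ((snd G T ≫ c) * fst G T) (snd G T)
  inv := lift ((snd G T ≫ c⁻¹) * fst G T) (snd G T)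
  hom_inv_id := CartesianMonoidalCategory.hom_ext _ _
    (by simp [MonObj.comp_mul, GrpObj.comp_inv]) (by simp)
  inv_hom_id := CartesianMonoidalCategory.hom_ext _ _
    (by simp [MonObj.comp_mul, GrpObj.comp_inv]) (by simp)

theorem sec_tr {T : Over S} (c x : T ⟶ G) : lift x (𝟙 T) ≫ (tr c).hom = lift (c * x) (𝟙 T) :=
  CartesianMonoidalCategory.hom_ext _ _ (by simp [tr, MonObj.comp_mul]) (by simp [tr])

theorem exists_fieldPt {Y : Over S} (y : Y.left) :
    ∃ (K : Type u) (_ : Field K) (t : Spec (CommRingCat.of K) ⟶ S) (p : Over.mk t ⟶ Y), ∀ q, p.left q = y :=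
  ⟨Y.left.residueField y, inferInstance, Y.left.fromSpecResidueField y ≫ Y.hom,
    Over.homMk (Y.left.fromSpecResidueField y) rfl, fun q => Scheme.fromSpecResidueField_apply y q⟩

theorem div_mem {Y : Over S} (g h : Y ⟶ G) (y : Y.left) (hg : g.left y ∈ SGA3x.neutralSet G)
    (hh : h.left y ∈ SGA3x.neutralSet G) : (h⁻¹ * g).left y ∈ SGA3x.neutralSet G := by
  obtain ⟨K, _, t, p, hp⟩ := exists_fieldPt y
  obtain ⟨θ, hθ, hθ'⟩ := exists_top (G := G) t
  let q : ↥(Over.mk t).left := (IsLocalRing.closedPoint K : PrimeSpectrum K)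
  have hsec : ∀ x : Over.mk t ⟶ G, θ ⤳ (lift x (𝟙 _)).left q ↔ x.left q ∈ SGA3x.neutralSet G := fun x => by
    rw [← hθ', ← Scheme.Hom.comp_apply, ← Over.comp_left, lift_fst]
  have hY : ∀ x : Y ⟶ G, (p ≫ x).left q = x.left y := fun x => by
    rw [Over.comp_left, Scheme.Hom.comp_apply, hp]
  let ψ := tr (p ≫ h)⁻¹
  have hmap : ∀ x : Over.mk t ⟶ G, ψ.hom.left ((lift x (𝟙 _)).left q) = (lift ((p ≫ h)⁻¹ * x) (𝟙 _)).left q := fun x => by
    rw [← Scheme.Hom.comp_apply, ← Over.comp_left, sec_tr]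
  have h1 : ψ.hom.left θ ⤳ (lift (1 : Over.mk t ⟶ G) (𝟙 _)).left q := by
    have := ((hsec (p ≫ h)).2 ((hY h).symm ▸ hh)).map ψ.hom.left.continuous
    rwa [hmap, inv_mul_cancel] at this
  have h0 : θ ⤳ (lift (1 : Over.mk t ⟶ G) (𝟙 _)).left q :=
    (hsec _).2 (by rw [one_left_apply]; exact us_mem _)
  have hfix : ψ.hom.left θ = θ :=
    uniqAt_grp (G := Red.bc t G) ((lift (1 : Over.mk t ⟶ G) (𝟙 _)).left q) (ψ.hom.left θ) θ
      (isMax_homeo' (Scheme.homeoOfIso ((Over.forget _).mapIso ψ)) hθ) hθ h1 h0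
  have h2 := ((hsec (p ≫ g)).2 ((hY g).symm ▸ hg)).map ψ.hom.left.continuous
  rw [hmap, hfix, hsec, ← GrpObj.comp_inv, ← MonObj.comp_mul, hY] at h2
  exact h2

theorem inv_mem {Y : Over S} (g : Y ⟶ G) (y : Y.left) (hg : g.left y ∈ SGA3x.neutralSet G) :
    (g⁻¹).left y ∈ SGA3x.neutralSet G := by
  have := div_mem (1 : Y ⟶ G) g y (by rw [one_left_apply]; exact us_mem _) hg
  rwa [mul_one] at this

theorem mul_mem {Y : Over S} (g h : Y ⟶ G) (y : Y.left) (hg : g.left y ∈ SGA3x.neutralSet G)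
    (hh : h.left y ∈ SGA3x.neutralSet G) : (g * h).left y ∈ SGA3x.neutralSet G := by
  have := div_mem h g⁻¹ y hh (inv_mem g y hg)
  rwa [inv_inv] at this

theorem mem_of_mu (z : ↥(G ⊗ G).left) (h₁ : (fst G G).left z ∈ SGA3x.neutralSet G)
    (h₂ : (snd G G).left z ∈ SGA3x.neutralSet G) : μ[G].left z ∈ SGA3x.neutralSet G := by
  have := mul_mem (fst G G) (snd G G) z h₁ h₂
  rwa [Hom.mul_def, lift_fst_snd, Category.id_comp] at this

/-- The neutral component of a fibre is generated by any of its open subsets around the unit. -/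
theorem exists_mul {x : G.left} (hx : x ∈ SGA3x.neutralSet G) {W : Set G.left} (hW : IsOpen W)
    (he : us G (G.hom x) ∈ W) : ∃ z : ↥(G ⊗ G).left, (fst G G).left z ∈ W ∧
      (fst G G).left z ∈ SGA3x.neutralSet G ∧ (snd G G).left z ∈ W ∧
      (snd G G).left z ∈ SGA3x.neutralSet G ∧ μ[G].left z = x := by
  obtain ⟨K, _, t, p, hp⟩ := exists_fieldPt (Y := G) x
  obtain ⟨θ, hθ, hθ'⟩ := exists_top (G := G) t
  let T := Over.mk t
  let q : ↥T.left := (IsLocalRing.closedPoint K : PrimeSpectrum K)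
  haveI : Subsingleton ↥T.left := inferInstanceAs (Subsingleton (PrimeSpectrum K))
  have htx : T.hom q = G.hom x := by
    rw [← hp q, ← Scheme.Hom.comp_apply, Over.w p]
  let ψ : G ⊗ T ⟶ G := (fst G T)⁻¹ * (snd G T ≫ p)
  have hsec : ∀ c : T ⟶ G, θ ⤳ (lift c (𝟙 T)).left q ↔ c.left q ∈ SGA3x.neutralSet G := fun c => by
    rw [← hθ', ← Scheme.Hom.comp_apply, ← Over.comp_left, lift_fst]
  have h1 : (fst G T).left θ ∈ W := by
    have := ((hsec 1).2 (by rw [one_left_apply]; exact us_mem _)).map (fst G T).left.continuous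
    refine this.mem_open hW ?_
    rw [← Scheme.Hom.comp_apply, ← Over.comp_left, lift_fst, one_left_apply, htx]
    exact he
  have h2 : ψ.left θ ∈ W := by
    have := ((hsec p).2 (by rw [hp]; exact hx)).map ψ.left.continuous
    refine this.mem_open hW ?_
    rw [← Scheme.Hom.comp_apply, ← Over.comp_left]
    have e : lift p (𝟙 T) ≫ ψ = 1 := by
      simp only [ψ, MonObj.comp_mul, GrpObj.comp_inv, lift_fst, lift_snd_assoc, Category.id_comp]
      exact inv_mul_cancel p
    rw [e, one_left_apply, htx]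
    exact he
  have h3 : (fst G T).left θ ∈ SGA3x.neutralSet G := (hθ' θ).2 specializes_rfl
  have h4 : ψ.left θ ∈ SGA3x.neutralSet G := by
    refine mul_mem _ _ θ (inv_mem _ θ h3) ?_
    rw [Over.comp_left, Scheme.Hom.comp_apply, hp]
    exact hx
  refine ⟨(lift (fst G T) ψ).left θ, ?_, ?_, ?_, ?_, ?_⟩
  iterate 4 rw [← Scheme.Hom.comp_apply, ← Over.comp_left]; simp only [lift_fst, lift_snd]; assumption
  rw [← Scheme.Hom.comp_apply, ← Over.comp_left, ← Hom.mul_def]
  simp only [ψ, mul_inv_cancel_left, Over.comp_left, Scheme.Hom.comp_apply]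
  exact hp _

end Groth.Agent.NeutralSch
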