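import Groth.Agent.NeutralSchLib.Basic
import Groth.Agent.GISpreadLib.Cons
import Groth.Agent.FibDimLib.Apps
import Groth.Agent.ProConsLib.Sch

/-!
# Affine charts around the unit section
-/

set_option autoImplicit false
set_option backward.isDefEq.respectTransparency false
set_option maxHeartbeats 400000

noncomputable section

universe u

open CategoryTheory CategoryTheory.Limits MonoidalCategory CartesianMonoidalCategory AlgebraicGeometry Topology
open scoped MonObj
open Groth.Agent.HomogDense Groth.Agent.GrpField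

namespace Groth.Agent.NeutralSch

theorem isIndConstructible_open {X : Scheme.{u}} (U : X.Opens) : ProCons.IsIndConstructible (U : Set X) := by
  rw [← Scheme.Opens.range_ι U, ← Set.image_univ]
  exact ProConsLib.isIndConstructible_image U.ι
    (ProConsLib.isIndConstructible_of_isLocallyConstructible IsLocallyConstructible.univ)

theorem isIndConstructible_inter {X : Scheme.{u}} {E F : Set X} (hE : ProCons.IsIndConstructible E)
    (hF : ProCons.IsIndConstructible F) : ProCons.IsIndConstructible (E ∩ F) :=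
  ProConsLib.isIndConstructible_iff_affine.2 fun U hU =>
    @IsOpen.inter _ (constructibleTopology U.toScheme) _ _ (ProConsLib.isIndConstructible_iff_affine.1 hE U hU)
      (ProConsLib.isIndConstructible_iff_affine.1 hF U hU)

theorem isIndConstructible_iUnion {X : Scheme.{u}} {κ : Type*} {E : κ → Set X}
    (hE : ∀ i, ProCons.IsIndConstructible (E i)) : ProCons.IsIndConstructible (⋃ i, E i) :=
  ProConsLib.isIndConstructible_iff_affine.2 fun U hU => by
    rw [Set.preimage_iUnion]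
    exact @isOpen_iUnion _ _ (constructibleTopology U.toScheme) _ fun i =>
      ProConsLib.isIndConstructible_iff_affine.1 (hE i) U hU

variable {S : Scheme.{u}} (G : Over S) [GrpObj G]

/-- An affine open around the unit section over an affine open of the base. -/
theorem exists_chart (s : S) : ∃ (V : S.Opens) (W : G.left.Opens), IsAffineOpen V ∧ s ∈ V ∧ IsAffineOpen W ∧
    W ≤ G.hom ⁻¹ᵁ V ∧ ∀ t ∈ V, us G t ∈ W := by
  obtain ⟨V₀, hV₀, hs, -⟩ := exists_isAffineOpen_mem_and_subset (X := S) (x := s) (U := ⊤) trivial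
  have hπ : ∀ t, G.hom (us G t) = t := SecCompLib.apply_section (us_fac G)
  obtain ⟨W₀, hW₀, hsW, hWV⟩ := exists_isAffineOpen_mem_and_subset (X := G.left) (x := us G s)
    (U := G.hom ⁻¹ᵁ V₀) (show G.hom (us G s) ∈ V₀ from (hπ s).symm ▸ hs)
  obtain ⟨f, hfW, hsf⟩ := hV₀.exists_basicOpen_le (V := us G ⁻¹ᵁ W₀) ⟨s, hsW⟩ hs
  refine ⟨S.basicOpen f, W₀ ⊓ G.hom ⁻¹ᵁ S.basicOpen f, hV₀.basicOpen f, hsf, ?_, inf_le_right,
    fun t ht => ⟨hfW ht, show G.hom (us G t) ∈ S.basicOpen f from (hπ t).symm ▸ ht⟩⟩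
  have e : W₀ ⊓ G.hom ⁻¹ᵁ S.basicOpen f = G.left.basicOpen ((G.hom.appLE V₀ W₀ hWV).hom f) := by
    rw [Scheme.basicOpen_appLE]
  rw [e]
  exact hW₀.basicOpen _

/-- The same after restricting the group to the affine open. -/
theorem exists_chart_bc (s : S) : ∃ V : S.Opens, IsAffineOpen V ∧ s ∈ V ∧
    ∃ W : (Red.bc V.ι G).left.Opens, IsAffineOpen W ∧ ∀ t, us (Red.bc V.ι G) t ∈ W := by
  obtain ⟨V, W, hV, hs, hW, hWV, hu⟩ := exists_chart G s
  refine ⟨V, hV, hs, pullback.fst G.hom V.ι ⁻¹ᵁ W, hW.preimage_of_isOpenImmersion _ ?_, fun t => ?_⟩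
  · intro x hx
    show x ∈ Set.range (pullback.fst G.hom V.ι)
    rw [IsOpenImmersion.range_pullbackFst]
    exact (Scheme.Opens.opensRange_ι V).symm ▸ hWV hx
  · show pullback.fst G.hom V.ι (us (Red.bc V.ι G) t) ∈ W
    refine (congrArg (· ∈ W) ((Scheme.Hom.comp_apply _ _ _).symm.trans ?_)).mpr (hu t.1 t.2)
    rw [bc_unit_fst G V.ι]
    rfl

variable (W : G.left.Opens) (hu : ∀ t, us G t ∈ W)

/-- The restricted section. -/
def gW : S ⟶ W.toScheme :=
  IsOpenImmersion.lift W.ι (us G) (by rw [Scheme.Opens.range_ι]; rintro _ ⟨t, rfl⟩; exact hu t)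

theorem gW_ι : gW G W hu ≫ W.ι = us G := IsOpenImmersion.lift_fac _ _ _

theorem gW_fac : gW G W hu ≫ W.ι ≫ G.hom = 𝟙 S := by
  rw [← Category.assoc, gW_ι, us_fac]

theorem comp_chart (t : S) :
    SecCompLib.comp (W.ι ≫ G.hom) (gW G W hu) t = W.ι ⁻¹' SecCompLib.comp G.hom (us G) t := by
  have hgt : W.ι (gW G W hu t) = us G t := by rw [← Scheme.Hom.comp_apply, gW_ι]
  refine Set.Subset.antisymm (fun v hv => ?_) ?_
  · have h := (isPreconnected_connectedComponentIn.image W.ι W.ι.continuous.continuousOn).subset_connectedComponentIn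
      (s := W.ι '' SecCompLib.comp (W.ι ≫ G.hom) (gW G W hu) t) (x := us G t) (F := G.hom.base ⁻¹' {t})
      ⟨_, SecCompLib.section_mem (gW_fac G W hu) t, hgt⟩ (by
        rintro _ ⟨w, hw, rfl⟩
        have := SecCompLib.map_of_mem hw
        rwa [Scheme.Hom.comp_apply] at this)
    exact h ⟨v, hv, rfl⟩
  · refine (IsPreirreducible.preimage (isIrreducible_comp G t).2 W.ι.isOpenEmbedding).isPreconnected.subset_connectedComponentIn
      (show W.ι (gW G W hu t) ∈ _ from hgt ▸ SecCompLib.section_mem (us_fac G) t) fun v hv => ?_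
    show (W.ι ≫ G.hom) v = t
    rw [Scheme.Hom.comp_apply]
    exact SecCompLib.map_of_mem hv

theorem preimage_neutralSet :
    W.ι ⁻¹' SGA3x.neutralSet G = MoreMor.sectionComponents (W.ι ≫ G.hom) (gW G W hu) := by
  ext v
  rw [neutralSet_eq]
  show W.ι v ∈ SecCompLib.comp G.hom (us G) (G.hom (W.ι v)) ↔
    v ∈ SecCompLib.comp (W.ι ≫ G.hom) (gW G W hu) ((W.ι ≫ G.hom) v)
  rw [comp_chart, Scheme.Hom.comp_apply]
  rfl

theorem geomIrred_chart (t : S) : SecCompLib.GeomIrred (W.ι ≫ G.hom) (gW G W hu) t := by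
  intro K _ _
  let d := Spec.map (CommRingCat.ofHom (algebraMap (IsLocalRing.ResidueField (S.presheaf.stalk t)) K))
  let φ : (W.ι ≫ G.hom).fiber t ⟶ G.hom.fiber t :=
    pullback.map _ _ _ _ W.ι (𝟙 _) (𝟙 _) (by simp) (by simp)
  have hφ₁ : φ ≫ G.hom.fiberι t = (W.ι ≫ G.hom).fiberι t ≫ W.ι := pullback.lift_fst _ _ _
  have hφ₂ : φ ≫ G.hom.fiberToSpecResidueField t = (W.ι ≫ G.hom).fiberToSpecResidueField t := by
    show φ ≫ pullback.snd _ _ = pullback.snd _ _
    rw [pullback.lift_snd, Category.comp_id]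
  let Φ : FBase.bc ((W.ι ≫ G.hom).fiberToSpecResidueField t) K ⟶ FBase.bc (G.hom.fiberToSpecResidueField t) K :=
    pullback.map _ _ _ _ φ (𝟙 _) (𝟙 _) (by rw [Category.comp_id]; exact hφ₂.symm) (by simp)
  haveI : IsOpenImmersion φ := inferInstanceAs (IsOpenImmersion (pullback.map _ _ _ _ W.ι (𝟙 _) (𝟙 _) _ _))
  haveI : IsOpenImmersion Φ := inferInstanceAs (IsOpenImmersion (pullback.map _ _ _ _ φ (𝟙 _) (𝟙 _) _ _))
  have hΦ₁ : Φ ≫ FBase.bcπ (G.hom.fiberToSpecResidueField t) K =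
      FBase.bcπ ((W.ι ≫ G.hom).fiberToSpecResidueField t) K ≫ φ := pullback.lift_fst _ _ _
  have hpre : (FBase.bcπ ((W.ι ≫ G.hom).fiberToSpecResidueField t) K ≫ (W.ι ≫ G.hom).fiberι t).base ⁻¹'
        SecCompLib.comp (W.ι ≫ G.hom) (gW G W hu) t =
      Φ ⁻¹' ((FBase.bcπ (G.hom.fiberToSpecResidueField t) K ≫ G.hom.fiberι t).base ⁻¹'
        SecCompLib.comp G.hom (us G) t) := by
    rw [comp_chart, ← Set.preimage_comp, ← Set.preimage_comp, ← TopCat.coe_comp, ← TopCat.coe_comp,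
      ← Scheme.Hom.comp_base, ← Scheme.Hom.comp_base, reassoc_of% hΦ₁, hφ₁, Category.assoc]
  refine ⟨?_, hpre ▸ IsPreirreducible.preimage (geomIrred G t K).2 Φ.isOpenEmbedding⟩
  obtain ⟨w, hw⟩ : ∃ w, (W.ι ≫ G.hom).fiberι t w = gW G W hu t :=
    ((W.ι ≫ G.hom).range_fiberι t).ge (SecCompLib.apply_section (gW_fac G W hu) t)
  haveI : Subsingleton ↥(Spec (CommRingCat.of (IsLocalRing.ResidueField (S.presheaf.stalk t)))) :=
    inferInstanceAs (Subsingleton (PrimeSpectrum (IsLocalRing.ResidueField (S.presheaf.stalk t))))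
  obtain ⟨v, hv, -⟩ := Scheme.Pullback.exists_preimage_pullback
    (f := (W.ι ≫ G.hom).fiberToSpecResidueField t) (g := d) w
    (IsLocalRing.closedPoint K : PrimeSpectrum K) (Subsingleton.elim _ _)
  refine ⟨v, Set.mem_preimage.2 ?_⟩
  have e : (FBase.bcπ ((W.ι ≫ G.hom).fiberToSpecResidueField t) K ≫ (W.ι ≫ G.hom).fiberι t) v = gW G W hu t :=
    ((Scheme.Hom.comp_apply _ _ _).trans (congrArg _ hv)).trans hw
  exact (congrArg (· ∈ SecCompLib.comp (W.ι ≫ G.hom) (gW G W hu) t) e).mpr (SecCompLib.section_mem (gW_fac G W hu) t)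

theorem dim_chart [LocallyOfFiniteType G.hom] (t : S) :
    topologicalKrullDim ↥(SecCompLib.comp (W.ι ≫ G.hom) (gW G W hu) t) =
      topologicalKrullDim ↥(G.hom.base ⁻¹' {t}) := by
  have h := geomIrred_chart G W hu t
  rw [dim_fibre_eq, ← SecCompLib.fibreDimAt_section (gW_fac G W hu) h.isIrreducible,
    FibDimLib.fibreDimAt_comp_isOpenImmersion, fibreDimAt_eq_comp_dim, ← Scheme.Hom.comp_apply, ← Scheme.Hom.comp_apply,
    gW_fac]
  rfl

include hu in
theorem isLocallyConstructible_chart [IsAffine S] (hW : IsAffineOpen W) [LocallyOfFinitePresentation G.hom] :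
    IsLocallyConstructible (W.ι ⁻¹' SGA3x.neutralSet G) := by
  rw [preimage_neutralSet G W hu]
  haveI : IsAffine W.toScheme := hW
  exact GISpreadLib.isLocallyConstructible_sectionComponents _ _ (gW_fac G W hu)

include hu in
theorem isIndConstructible_chart [IsAffine S] (hW : IsAffineOpen W)
    [LocallyOfFinitePresentation G.hom] : ProCons.IsIndConstructible (SGA3x.neutralSet G ∩ W) := by
  have h := ProConsLib.isIndConstructible_image W.ι
    (ProConsLib.isIndConstructible_of_isLocallyConstructible (isLocallyConstructible_chart G W hu hW))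
  rwa [Set.image_preimage_eq_inter_range, Scheme.Opens.range_ι] at h

include hu in
theorem neutralSet_eq_image : SGA3x.neutralSet G = μ[G].left ''
    ((fst G G).left ⁻¹' (SGA3x.neutralSet G ∩ W) ∩ (snd G G).left ⁻¹' (SGA3x.neutralSet G ∩ W)) := by
  refine Set.Subset.antisymm (fun x hx => ?_) ?_
  · obtain ⟨z, h1, h2, h3, h4, h5⟩ := exists_mul (G := G) hx W.2 (hu _)
    exact ⟨z, ⟨⟨h2, h1⟩, h4, h3⟩, h5⟩
  · rintro _ ⟨z, ⟨⟨h1, -⟩, h2, -⟩, rfl⟩
    exact mem_of_mu z h1 h2

end Groth.Agent.NeutralSch
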