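import Groth.Agent.NeutralSchLib.Basic

/-!
# The union of neutral components is stable under conjugation
-/

set_option autoImplicit false
set_option backward.isDefEq.respectTransparency false

noncomputable section

universe u

open CategoryTheory CategoryTheory.Limits MonoidalCategory CartesianMonoidalCategory AlgebraicGeometry
open scoped MonObj
open Groth.Agent.HomogDense Groth.Agent.GrpField

namespace Groth.Agent.NeutralSch

variable {S : Scheme.{u}} {G : Over S} [GrpObj G]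

/-- Conjugation of `G ⊗ T` by a point. -/
def conj {T : Over S} (c : T ⟶ G) : G ⊗ T ≅ G ⊗ T where
  hom := lift ((snd G T ≫ c) * fst G T * (snd G T ≫ c)⁻¹) (snd G T)
  inv := lift ((snd G T ≫ c)⁻¹ * fst G T * (snd G T ≫ c)) (snd G T)
  hom_inv_id := CartesianMonoidalCategory.hom_ext _ _
    (by simp [MonObj.comp_mul, GrpObj.comp_inv, mul_assoc]) (by simp)
  inv_hom_id := CartesianMonoidalCategory.hom_ext _ _
    (by simp [MonObj.comp_mul, GrpObj.comp_inv, mul_assoc]) (by simp)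

theorem sec_conj {T : Over S} (c x : T ⟶ G) : lift x (𝟙 T) ≫ (conj c).hom = lift (c * x * c⁻¹) (𝟙 T) :=
  CartesianMonoidalCategory.hom_ext _ _ (by simp [conj, MonObj.comp_mul, GrpObj.comp_inv]) (by simp [conj])

theorem conj_mem {Y : Over S} (g n : Y ⟶ G) (y : Y.left) (hn : n.left y ∈ SGA3x.neutralSet G) :
    (g * n * g⁻¹).left y ∈ SGA3x.neutralSet G := by
  obtain ⟨K, _, t, p, hp⟩ := exists_fieldPt y
  obtain ⟨θ, hθ, hθ'⟩ := exists_top (G := G) t
  let q : ↥(Over.mk t).left := (IsLocalRing.closedPoint K : PrimeSpectrum K)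
  have hsec : ∀ x : Over.mk t ⟶ G, θ ⤳ (lift x (𝟙 _)).left q ↔ x.left q ∈ SGA3x.neutralSet G := fun x => by
    rw [← hθ', ← Scheme.Hom.comp_apply, ← Over.comp_left, lift_fst]
  have hY : ∀ x : Y ⟶ G, (p ≫ x).left q = x.left y := fun x => by
    rw [Over.comp_left, Scheme.Hom.comp_apply, hp]
  let ψ := conj (p ≫ g)
  have hmap : ∀ x : Over.mk t ⟶ G, ψ.hom.left ((lift x (𝟙 _)).left q) = (lift ((p ≫ g) * x * (p ≫ g)⁻¹) (𝟙 _)).left q :=
    fun x => by rw [← Scheme.Hom.comp_apply, ← Over.comp_left, sec_conj]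
  have h0 : θ ⤳ (lift (1 : Over.mk t ⟶ G) (𝟙 _)).left q :=
    (hsec _).2 (by rw [one_left_apply]; exact us_mem _)
  have h1 : ψ.hom.left θ ⤳ (lift (1 : Over.mk t ⟶ G) (𝟙 _)).left q := by
    have := h0.map ψ.hom.left.continuous
    rwa [hmap, mul_one, mul_inv_cancel] at this
  have hfix : ψ.hom.left θ = θ :=
    uniqAt_grp (G := Red.bc t G) ((lift (1 : Over.mk t ⟶ G) (𝟙 _)).left q) (ψ.hom.left θ) θ
      (isMax_homeo' (Scheme.homeoOfIso ((Over.forget _).mapIso ψ)) hθ) hθ h1 h0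
  have h2 := ((hsec (p ≫ n)).2 ((hY n).symm ▸ hn)).map ψ.hom.left.continuous
  rw [hmap, hfix, hsec, ← GrpObj.comp_inv, ← MonObj.comp_mul, ← MonObj.comp_mul, hY] at h2
  exact h2

end Groth.Agent.NeutralSch
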