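import Groth.Agent.NeutralSchLib.Global
import Groth.Agent.SecCompLib.Univ
import Groth.Agent.UOpenLib.Basic
import Groth.Agent.S4956

/-!
# Universal openness along the neutral components and constancy of the fibre dimension
-/

set_option autoImplicit false
set_option backward.isDefEq.respectTransparency false
set_option maxHeartbeats 400000

noncomputable section

universe u

open CategoryTheory CategoryTheory.Limits MonoidalCategory CartesianMonoidalCategory AlgebraicGeometry Topology
open scoped MonObj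
open Groth.Agent.HomogDense Groth.Agent.GrpField

namespace Groth.Agent.NeutralSch

variable {S : Scheme.{u}} {G : Over S} [GrpObj G]

theorem isUnivOpenAt_of_universallyOpen {X Y : Scheme.{u}} (f : X ⟶ Y) [UniversallyOpen f] (x : X) :
    EGA43.IsUnivOpenAt f x := by
  intro Y' g x' _ U hU
  haveI : UniversallyOpen (pullback.snd f g) := MorphismProperty.pullback_snd _ _ inferInstance
  exact (pullback.snd f g).isOpenMap.image_mem_nhds hU

/-- The dimension of the fibres is insensitive to base change. -/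
theorem dim_bc [LocallyOfFiniteType G.hom] {S' : Scheme.{u}} (f : S' ⟶ S) (t : S') :
    topologicalKrullDim ↥((Red.bc f G).hom.base ⁻¹' {t}) = topologicalKrullDim ↥(G.hom.base ⁻¹' {f t}) := by
  haveI : LocallyOfFiniteType (Red.bc f G).hom := inferInstanceAs (LocallyOfFiniteType (pullback.snd G.hom f))
  rw [dim_fibre_eq, dim_fibre_eq, ← SecCompLib.fibreDimAt_section (us_fac (Red.bc f G)) (isIrreducible_comp _ t),
    ← SecCompLib.fibreDimAt_section (us_fac G) (isIrreducible_comp G _)]
  refine (FibDimLib.fibreDimAt_baseChange (IsPullback.of_hasPullback G.hom f) _).trans (congrArg _ ?_)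
  refine (Scheme.Hom.comp_apply _ _ _).symm.trans ?_
  rw [bc_unit_fst G f]
  rfl

theorem isUnivOpenAt_of_dim_const [LocallyOfFinitePresentation G.hom] {s : S} {V : Set S} (hV : V ∈ nhds s)
    (hc : ∀ t ∈ V, topologicalKrullDim ↥(G.hom.base ⁻¹' {t}) = topologicalKrullDim ↥(G.hom.base ⁻¹' {s}))
    {x : G.left} (hx : x ∈ SGA3x.neutralSet G) (hxs : G.hom x = s) : EGA43.IsUnivOpenAt G.hom x := by
  refine SecCompLib.isUnivOpenAt_of_dim_const G.hom (us G) (us_fac G) (geomIrred G) V hV (fun z hz => ?_)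
    ((neutralSet_inter_fibre G s).le ⟨hx, hxs⟩)
  rw [← dim_fibre_eq, ← dim_fibre_eq]
  exact hc z hz

theorem dim_const_affine [IsAffine S] [LocallyOfFinitePresentation G.hom] {W : G.left.Opens} (hW : IsAffineOpen W)
    (hu : ∀ t, us G t ∈ W) (s : S)
    (h : ∀ x ∈ SecCompLib.comp G.hom (us G) s, SecCompLib.comp G.hom (us G) s ⊆ closure {x} →
      EGA43.IsUnivOpenAt G.hom x) :
    ∃ V ∈ nhds s, ∀ t ∈ V, topologicalKrullDim ↥(G.hom.base ⁻¹' {t}) = topologicalKrullDim ↥(G.hom.base ⁻¹' {s}) := by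
  haveI : IsAffine W.toScheme := hW
  have hgi : ∀ y, SecCompLib.GeomIrred (W.ι ≫ G.hom) (gW G W hu) y := geomIrred_chart G W hu
  suffices hop : (∀ ξ ∈ SecCompLib.comp (W.ι ≫ G.hom) (gW G W hu) s,
      SecCompLib.comp (W.ι ≫ G.hom) (gW G W hu) s ⊆ closure {ξ} → EGA43.IsUnivOpenAt (W.ι ≫ G.hom) ξ) ∧
      (∀ y' : S, topologicalKrullDim ↥((W.ι ≫ G.hom).fiber y') =
        topologicalKrullDim ↥(SecCompLib.comp (W.ι ≫ G.hom) (gW G W hu) y')) by
    obtain ⟨V, hV, hc⟩ := Groth.Agent.S4956.result (W.ι ≫ G.hom) (gW G W hu) (gW_fac G W hu) hgi s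
      hop.1 (Or.inr fun y' _ _ => hop.2 y')
    refine ⟨V, hV, fun t ht => ?_⟩
    rw [← dim_chart G W hu t, ← dim_chart G W hu s]
    exact hc t ht
  refine ⟨fun ξ hξ hξg => ?_, fun y' => ?_⟩
  · refine UOpenLib.IsUnivOpenAt.comp (isUnivOpenAt_of_universallyOpen W.ι ξ) ?_
    rw [comp_chart] at hξ hξg
    obtain ⟨ξ₀, hξ₀, hC⟩ := SecCompLib.exists_generic_comp (us_fac G) (isIrreducible_comp G s)
    have hmem : ξ₀ ∈ W := by
      have h1 := (hC.le (SecCompLib.section_mem (us_fac G) s)).1
      exact (specializes_iff_mem_closure.2 h1).mem_open W.2 (hu s)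
    have h2 : W.ι ξ ⤳ ξ₀ := by
      have := hξg (show (⟨ξ₀, hmem⟩ : W.toScheme) ∈ W.ι ⁻¹' SecCompLib.comp G.hom (us G) s from hξ₀)
      exact ((specializes_iff_mem_closure.2 this).map W.ι.continuous)
    refine h _ hξ fun z hz => ?_
    rw [hC] at hz
    exact (h2.trans (specializes_iff_mem_closure.2 hz.1)).mem_closure
  · rw [dim_chart G W hu y', dim_fibre_eq,
      ← SecCompLib.fibreDimAt_section (us_fac G) (isIrreducible_comp G y')]
    refine le_antisymm ?_ ?_
    · rw [FibDimLib.topologicalKrullDim_fiber_le_iff]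
      intro v hv
      rw [FibDimLib.fibreDimAt_comp_isOpenImmersion, fibreDimAt_eq]
      refine le_of_eq (congrArg (fun z => FlatMor.fibreDimAt G.hom (us G z)) ?_)
      exact (Scheme.Hom.comp_apply _ _ _).symm.trans hv
    · have h1 := FibDimLib.fibreDimAt_le_fiber (W.ι ≫ G.hom) (gW G W hu y')
      have e : W.ι (gW G W hu y') = us G y' := by rw [← Scheme.Hom.comp_apply, gW_ι]
      rw [FibDimLib.fibreDimAt_comp_isOpenImmersion, e] at h1
      exact h1.trans (le_of_eq (congrArg (fun z => topologicalKrullDim ↥((W.ι ≫ G.hom).fiber z))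
        (SecCompLib.apply_section (gW_fac G W hu) y')))

/-- Universal openness at the generic point of a neutral component forces constancy of the dimension nearby. -/
theorem dim_const_of_univOpenAt [LocallyOfFinitePresentation G.hom] (s : S)
    (h : ∀ x ∈ SecCompLib.comp G.hom (us G) s, SecCompLib.comp G.hom (us G) s ⊆ closure {x} →
      EGA43.IsUnivOpenAt G.hom x) :
    ∃ V ∈ nhds s, ∀ t ∈ V, topologicalKrullDim ↥(G.hom.base ⁻¹' {t}) = topologicalKrullDim ↥(G.hom.base ⁻¹' {s}) := by
  obtain ⟨V, hV, hs, W, hW, hu⟩ := exists_chart_bc G s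
  haveI : IsAffine V.toScheme := hV
  let G' := Red.bc V.ι G
  haveI : LocallyOfFinitePresentation G'.hom := inferInstanceAs (LocallyOfFinitePresentation (pullback.snd G.hom V.ι))
  let m : G'.left ⟶ G.left := pullback.fst G.hom V.ι
  obtain ⟨N, hN, hc⟩ := dim_const_affine (G := G') hW hu (⟨s, hs⟩ : V.toScheme) fun x hx hxg => by
    refine UOpenLib.IsUnivOpenAt.of_isPullback ?_ (IsPullback.of_hasPullback G.hom V.ι) x rfl
    have hπm : G.hom (m x) = s := by
      show G.hom (pullback.fst G.hom V.ι x) = s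
      rw [← Scheme.Hom.comp_apply, pullback.condition, Scheme.Hom.comp_apply]
      exact congrArg V.ι (SecCompLib.map_of_mem hx)
    have hx1 : x ∈ m.base ⁻¹' SGA3x.neutralSet G := by
      have h1 := ((neutralSet_inter_fibre G' _).ge hx).1
      rwa [neutralSet_bc] at h1
    refine h _ ((neutralSet_inter_fibre G s).le ⟨hx1, hπm⟩) fun z hz => ?_
    obtain ⟨z', rfl⟩ : z ∈ Set.range m := by
      show z ∈ Set.range (pullback.fst G.hom V.ι)
      rw [IsOpenImmersion.range_pullbackFst, Scheme.Opens.opensRange_ι]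
      exact (show G.hom z ∈ V from (SecCompLib.map_of_mem hz : G.hom.base z = s).symm ▸ hs)
    have hz' : z' ∈ SecCompLib.comp G'.hom (us G') ⟨s, hs⟩ := by
      refine (neutralSet_inter_fibre G' _).le ⟨?_, ?_⟩
      · rw [neutralSet_bc]
        exact ((neutralSet_inter_fibre G s).ge hz).1
      · refine V.ι.isOpenEmbedding.injective ?_
        show V.ι (pullback.snd G.hom V.ι z') = s
        rw [← Scheme.Hom.comp_apply, ← pullback.condition, Scheme.Hom.comp_apply]
        exact SecCompLib.map_of_mem hz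
    exact ((specializes_iff_mem_closure.2 (hxg hz')).map m.continuous).mem_closure
  refine ⟨V.ι '' N, V.ι.isOpenEmbedding.isOpenMap.image_mem_nhds hN, ?_⟩
  rintro _ ⟨t, ht, rfl⟩
  rw [← dim_bc V.ι t, show s = V.ι (⟨s, hs⟩ : V.toScheme) from rfl, ← dim_bc V.ι]
  exact hc t ht

/-- Generizations lift into the neutral component when the dimension does not drop. -/
theorem exists_generization {y y' : S} (hy : y' ⤳ y) [LocallyOfFiniteType G.hom]
    (hd : topologicalKrullDim ↥(G.hom.base ⁻¹' {y}) ≤ topologicalKrullDim ↥(G.hom.base ⁻¹' {y'}))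
    {x : G.left} (hx : x ∈ SGA3x.neutralSet G) (hxy : G.hom x = y) :
    ∃ ξ, ξ ⤳ x ∧ ξ ∈ SGA3x.neutralSet G ∧ G.hom ξ = y' := by
  rw [dim_fibre_eq, dim_fibre_eq] at hd
  obtain ⟨ξ, hξ, hC⟩ := SecCompLib.exists_generic_comp (us_fac G) (isIrreducible_comp G y')
  refine ⟨ξ, ?_, ((neutralSet_inter_fibre G y').ge hξ).1, SecCompLib.map_of_mem hξ⟩
  have hx' := SecCompLib.subset_closure_of_dim_le (us_fac G) hy (isIrreducible_comp G y) (isIrreducible_comp G y') hd
    ((neutralSet_inter_fibre G y).le ⟨hx, hxy⟩)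
  rw [specializes_iff_mem_closure]
  refine closure_minimal ?_ isClosed_closure hx'
  rw [hC]
  exact Set.inter_subset_left

theorem eq_of_specializes {α : Type*} {c : S → α} (hc : IsLocallyConstant c) {y y' : S} (h : y' ⤳ y) :
    c y' = c y :=
  h.mem_open (hc.isOpen_fiber (c y)) rfl

end Groth.Agent.NeutralSch
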