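import Groth.Agent.NeutralSchLib.Orbit
import Groth.Agent.NeutralSchLib.ActionBC
import Groth.Agent.GrpFieldLib.Comps

/-!
# Homogeneous spaces with connected fibres
-/

set_option autoImplicit false
set_option backward.isDefEq.respectTransparency false
set_option maxHeartbeats 800000

noncomputable section

universe u

open CategoryTheory CategoryTheory.Limits MonoidalCategory CartesianMonoidalCategory AlgebraicGeometry Topology
open scoped MonObj
open Groth.Agent.HomogDense Groth.Agent.GrpField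

namespace Groth.Agent.NeutralSch

theorem exists_preimage_in_open_field {k : Type u} [Field k] {G X : Over (Spec (CommRingCat.of k))} [GrpObj G]
    (a : AlgGrp.Action G X) (hΦ : Surjective (lift a.act (snd G X)).left) [QuasiSeparatedSpace X.left]
    [PreconnectedSpace X.left] {V : Set X.left} (hV : IsOpen V) (hne : V.Nonempty) (x : X.left) :
    ∃ z : ↥(G ⊗ X).left, (fst G X).left z ∈ Z0 G ∧ (snd G X).left z ∈ V ∧ a.act.left z = x := by
  obtain ⟨T, p, hT, hp⟩ := exists_geomPointAt (X := X) x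
  obtain ⟨θ, hθ, hθ'⟩ := GrpField.exists_top (G := G) hT.fieldPt
  obtain ⟨q⟩ := hT.fieldPt.nonempty
  haveI := hT.fieldPt.subsingleton
  obtain ⟨hm, hms⟩ := isMax_orb a hΦ hT p q hθ ((hθ' _).1 (fst_unit_sec (G := G) q ▸ unitPt_mem_Z0 G))
  haveI := flat_fst (X := X) T
  let ξ := (fst X T).left ((orb a p).left θ)
  have hξ : IsMaxPt ξ := isMax_map _ hm
  have hξx : ξ ⤳ x := by
    have h := hms.map (fst X T).left.continuous
    rwa [← Scheme.Hom.comp_apply (lift p (𝟙 T)).left, ← Over.comp_left, lift_fst, hp] at h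
  have huniv : closure {ξ} = Set.univ := by
    rw [← connectedComponent_eq_closure a hΦ hξ hξx, PreconnectedSpace.connectedComponent_eq_univ]
  have hξV : ξ ∈ V := by
    obtain ⟨v, hv⟩ := hne
    exact (specializes_iff_mem_closure.2 (huniv.ge (Set.mem_univ v))).mem_open hV hv
  refine ⟨(lift (fst G T)⁻¹ (orb a p ≫ fst X T)).left θ, ?_, ?_, ?_⟩
  · rw [← Scheme.Hom.comp_apply, ← Over.comp_left, lift_fst]
    exact inv_mem_Z0 _ θ ((hθ' θ).2 specializes_rfl)
  · rw [← Scheme.Hom.comp_apply, ← Over.comp_left, lift_snd, Over.comp_left, Scheme.Hom.comp_apply]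
    exact hξV
  · rw [← Scheme.Hom.comp_apply, ← Over.comp_left]
    simp only [orb, lift_fst, ← GrpShear.lift_mul_act, inv_mul_cancel, GrpShear.lift_one_act, Over.comp_left,
      Scheme.Hom.comp_apply]
    exact hp _

variable {S : Scheme.{u}} {G X : Over S} [GrpObj G] (a : AlgGrp.Action G X)

theorem act_bc_fst {S' : Scheme.{u}} (f : S' ⟶ S) : ∃ j : (Red.bc f G ⊗ Red.bc f X).left ⟶ (G ⊗ X).left,
    j ≫ (fst G X).left = (fst (Red.bc f G) (Red.bc f X)).left ≫ pullback.fst G.hom f ∧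
    j ≫ (snd G X).left = (snd (Red.bc f G) (Red.bc f X)).left ≫ pullback.fst X.hom f ∧
    (actBC f a).act.left ≫ pullback.fst X.hom f = j ≫ a.act.left := by
  let F := Over.pullback f
  have hnat : ∀ {A B : Over S} (m : A ⟶ B), (F.map m).left ≫ pullback.fst B.hom f = pullback.fst A.hom f ≫ m.left :=
    fun {A B} m => by simp [F]
  refine ⟨(Functor.LaxMonoidal.μ F G X).left ≫ pullback.fst (G ⊗ X).hom f, ?_, ?_, ?_⟩
  · rw [Category.assoc, ← hnat (fst G X), ← Category.assoc, ← Over.comp_left, Functor.Monoidal.μ_fst]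
  · rw [Category.assoc, ← hnat (snd G X), ← Category.assoc, ← Over.comp_left, Functor.Monoidal.μ_snd]
  · rw [Category.assoc, ← hnat a.act, ← Category.assoc]
    rfl

theorem mem_orbitSet_of_connected (hΦ : Surjective (lift a.act (snd G X)).left) (s : S)
    (hqs : QuasiSeparatedSpace ↥(X.hom.base ⁻¹' {s})) (hconn : _root_.IsPreconnected (X.hom.base ⁻¹' {s}))
    (U : X.left.Opens) {v x : X.left} (hv : v ∈ U) (hvs : X.hom v = s) (hxs : X.hom x = s) : x ∈ orbitSet a U := by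
  let ι₀ := S.fromSpecResidueField s
  let Gs := Red.bc ι₀ G
  let Xs := Red.bc ι₀ X
  let e : Xs.left ≃ₜ X.hom.base ⁻¹' {s} := X.hom.fiberHomeo s
  haveI : QuasiSeparatedSpace Xs.left := QuasiSeparatedSpace.of_isOpenEmbedding e.isOpenEmbedding
  haveI : PreconnectedSpace ↥(X.hom.base ⁻¹' {s}) := Subtype.preconnectedSpace hconn
  haveI : PreconnectedSpace Xs.left := ⟨by
    rw [← e.symm.surjective.range_eq, ← Set.image_univ]
    exact isPreconnected_univ.image _ e.symm.continuous.continuousOn⟩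
  let pX : Xs.left ⟶ X.left := pullback.fst X.hom ι₀
  obtain ⟨x', hx'⟩ : ∃ x', pX x' = x := (X.hom.range_fiberι s).ge hxs
  obtain ⟨v', hv'⟩ : ∃ v', pX v' = v := (X.hom.range_fiberι s).ge hvs
  obtain ⟨z, hz1, hz2, hz3⟩ := exists_preimage_in_open_field (actBC ι₀ a) (surjective_shear_bc ι₀ a hΦ)
    (U.2.preimage pX.continuous) ⟨v', show pX v' ∈ U from hv'.symm ▸ hv⟩ x'
  obtain ⟨j, hj1, hj2, hj3⟩ := act_bc_fst a ι₀
  refine ⟨j z, ⟨?_, ?_⟩, ?_⟩
  · show (fst G X).left (j z) ∈ _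
    rw [← Scheme.Hom.comp_apply, hj1, Scheme.Hom.comp_apply]
    refine ((neutralSet_inter_fibre G s).ge ?_).1
    rw [← image_Z0]
    exact ⟨_, hz1, rfl⟩
  · show (snd G X).left (j z) ∈ U
    rw [← Scheme.Hom.comp_apply, hj2, Scheme.Hom.comp_apply]
    exact hz2
  · show a.act.left (j z) = x
    rw [← Scheme.Hom.comp_apply, ← hj3, Scheme.Hom.comp_apply, hz3]
    exact hx'

variable [LocallyOfFinitePresentation G.hom]

theorem isUnivOpenAt_neutral {W : G.left.Opens} (hu : ∀ t, us G t ∈ W) [UniversallyOpen (W.ι ≫ G.hom)]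
    {g : G.left} (hg : g ∈ SGA3x.neutralSet G) : EGA43.IsUnivOpenAt G.hom g := by
  obtain ⟨V, hV, hc⟩ := dim_const_of_univOpenAt (G := G) (G.hom g) fun x hx hxg => by
    have hxW : x ∈ W :=
      (specializes_iff_mem_closure.2 (hxg (SecCompLib.section_mem (us_fac G) (G.hom g)))).mem_open W.2 (hu _)
    exact UOpenLib.IsUnivOpenAt.of_comp (isUnivOpenAt_of_universallyOpen (W.ι ≫ G.hom) ⟨x, hxW⟩)
  exact isUnivOpenAt_of_dim_const hV hc hg rfl

theorem isSeparated_of_connected_fibres {W : G.left.Opens} (hu : ∀ t, us G t ∈ W) [UniversallyOpen (W.ι ≫ G.hom)]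
    (hΦ : Surjective (lift a.act (snd G X)).left) (hqs : ∀ s : S, QuasiSeparatedSpace ↥(X.hom.base ⁻¹' {s}))
    (hconn : ∀ s : S, _root_.IsPreconnected (X.hom.base ⁻¹' {s})) : IsSeparated X.hom := by
  suffices hcl : IsClosed (Set.range (lift (𝟙 X) (𝟙 X)).left) from
    ⟨IsClosedImmersion.of_isPreimmersion (pullback.diagonal X.hom) hcl⟩
  refine closure_subset_iff_isClosed.1 fun z hz => ?_
  let s := (X ⊗ X).hom z
  have hp : ∀ p : X ⊗ X ⟶ X, X.hom (p.left z) = s := fun p => by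
    rw [← Scheme.Hom.comp_apply, Over.w]
  obtain ⟨V, hV, hsV, -⟩ := exists_isAffineOpen_mem_and_subset (X := S) (x := s) (U := ⊤) trivial
  obtain ⟨U, hU, hxU, hUV⟩ := exists_isAffineOpen_mem_and_subset (X := X.left) (x := (fst X X).left z)
    (U := X.hom ⁻¹ᵁ V) (show X.hom ((fst X X).left z) ∈ V by rw [hp]; exact hsV)
  haveI : IsAffine U.toScheme := hU
  haveI : IsSeparated (U.ι ≫ X.hom) := by
    rw [← Scheme.Hom.resLE_comp_ι X.hom hUV]
    infer_instance
  exact mem_diag_of_mem_closure a U (fun g hg _ => isUnivOpenAt_neutral hu hg)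
    (mem_orbitSet_of_connected a hΦ s (hqs s) (hconn s) U hxU (hp _) (hp _))
    (mem_orbitSet_of_connected a hΦ s (hqs s) (hconn s) U hxU (hp _) (hp _)) hz

theorem quasiCompact_of_connected_fibres (hΦ : Surjective (lift a.act (snd G X)).left)
    (hqs : ∀ s : S, QuasiSeparatedSpace ↥(X.hom.base ⁻¹' {s}))
    (hconn : ∀ s : S, _root_.IsPreconnected (X.hom.base ⁻¹' {s})) (V : X.left.Opens) [QuasiCompact (V.ι ≫ X.hom)]
    (hV : ∀ s : S, (X.hom.base ⁻¹' {s}).Nonempty → ((V : Set X.left) ∩ X.hom.base ⁻¹' {s}).Nonempty) :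
    QuasiCompact X.hom := by
  rw [quasiCompact_iff_forall_isAffineOpen]
  intro A hA
  haveI : IsAffine A.toScheme := hA
  let GA := Red.bc A.ι G
  obtain ⟨UG, hUG, hsub⟩ := exists_qc_open (G := GA)
  haveI : CompactSpace UG.toScheme := isCompact_iff_compactSpace.1 hUG
  let V₀ : V.toScheme.Opens := (V.ι ≫ X.hom) ⁻¹ᵁ A
  haveI : CompactSpace V₀.toScheme :=
    isCompact_iff_compactSpace.1 (QuasiCompact.isCompact_preimage (f := V.ι ≫ X.hom) _ A.2 hA.isCompact)
  let a₁ : UG.toScheme ⟶ A.toScheme := UG.ι ≫ pullback.snd G.hom A.ι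
  let b₁ : V₀.toScheme ⟶ A.toScheme := (V.ι ≫ X.hom) ∣_ A
  haveI : QuasiCompact a₁ := (quasiCompact_iff_compactSpace _).2 inferInstance
  haveI : QuasiCompact (pullback.snd a₁ b₁) := MorphismProperty.pullback_snd _ _ inferInstance
  haveI : CompactSpace ↥(pullback a₁ b₁) := QuasiCompact.compactSpace_of_compactSpace (pullback.snd a₁ b₁)
  have h₁ : a₁ ≫ A.ι = (UG.ι ≫ pullback.fst G.hom A.ι) ≫ G.hom := by
    simp only [a₁, Category.assoc, pullback.condition]
  have h₂ : b₁ ≫ A.ι = (V₀.ι ≫ V.ι) ≫ X.hom := by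
    simp only [b₁, morphismRestrict_ι, Category.assoc]; rfl
  let j : pullback a₁ b₁ ⟶ (G ⊗ X).left := pullback.map _ _ G.hom X.hom (UG.ι ≫ pullback.fst G.hom A.ι)
    (V₀.ι ≫ V.ι) A.ι h₁ h₂
  have key : (X.hom ⁻¹ᵁ A : Set X.left) = Set.range (j ≫ a.act.left) := by
    ext x
    constructor
    · intro hx
      obtain ⟨v, hv, hvs⟩ := hV (X.hom x) ⟨x, rfl⟩
      obtain ⟨w, ⟨hw1, hw2⟩, hw3⟩ := mem_orbitSet_of_connected a hΦ (X.hom x) (hqs _) (hconn _) V hv hvs rfl
      have hwA : G.hom ((fst G X).left w) ∈ A := by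
        rw [← Scheme.Hom.comp_apply, Over.w, ← Over.w a.act, Scheme.Hom.comp_apply]
        exact (congrArg (fun y => X.hom y ∈ A) hw3).mpr hx
      obtain ⟨g, hg⟩ : (fst G X).left w ∈ Set.range (pullback.fst G.hom A.ι) := by
        rw [IsOpenImmersion.range_pullbackFst, Scheme.Opens.opensRange_ι]; exact hwA
      have hgU : g ∈ UG := hsub (by rw [neutralSet_bc]; exact (congrArg (· ∈ SGA3x.neutralSet G) hg).mpr hw1)
      have hvA : X.hom ((snd G X).left w) ∈ A := by
        rw [← Scheme.Hom.comp_apply, Over.w, ← Over.w a.act, Scheme.Hom.comp_apply]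
        exact (congrArg (fun y => X.hom y ∈ A) hw3).mpr hx
      obtain ⟨c, hc⟩ : w ∈ Set.range j := by
        refine (Scheme.Pullback.range_map a₁ b₁ G.hom X.hom (UG.ι ≫ pullback.fst G.hom A.ι) (V₀.ι ≫ V.ι) A.ι h₁ h₂).ge ?_
        exact ⟨⟨⟨g, hgU⟩, (Scheme.Hom.comp_apply _ _ _).trans hg⟩,
          ⟨⟨⟨_, hw2⟩, show (V.ι ≫ X.hom) _ ∈ A by rw [Scheme.Hom.comp_apply]; exact hvA⟩, rfl⟩⟩
      exact ⟨c, by rw [Scheme.Hom.comp_apply, hc, hw3]⟩
    · rintro ⟨c, rfl⟩
      show X.hom ((j ≫ a.act.left) c) ∈ A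
      rw [← Scheme.Hom.comp_apply, Category.assoc, Over.w a.act]
      show (j ≫ pullback.fst G.hom X.hom ≫ G.hom) c ∈ A
      rw [pullback.lift_fst_assoc, Category.assoc, ← h₁, ← Category.assoc, Scheme.Hom.comp_apply]
      exact ((pullback.fst a₁ b₁ ≫ a₁) c).2
  rw [key]
  exact isCompact_range (j ≫ a.act.left).continuous

end Groth.Agent.NeutralSch
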