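import Groth.Agent.NeutralSchLib.DimConst
import Groth.Agent.HomogSepLib.Main

/-!
# Translates of an open subset by the neutral components
-/

set_option autoImplicit false
set_option backward.isDefEq.respectTransparency false
set_option maxHeartbeats 800000

noncomputable section

universe u

open CategoryTheory CategoryTheory.Limits MonoidalCategory CartesianMonoidalCategory AlgebraicGeometry Topology
open scoped MonObj
open Groth.Agent.HomogDense Groth.Agent.GrpField

namespace Groth.Agent.NeutralSch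

variable {S : Scheme.{u}} {G X : Over S} [GrpObj G] (a : AlgGrp.Action G X)

/-- `G⁰ · U`. -/
def orbitSet (U : X.left.Opens) : Set X.left :=
  a.act.left.base '' {z : ↥(G ⊗ X).left | (fst G X).left.base z ∈ SGA3x.neutralSet G ∧ (snd G X).left.base z ∈ U}

theorem orbitSet_eq (U : X.left.Opens) : orbitSet a U = (snd G X).left ''
    ((fst G X).left ⁻¹' SGA3x.neutralSet G ∩ ((GrpShear.shear a (𝟙 G)).inv ≫ snd G X).left ⁻¹' U) := by
  have h1 : (GrpShear.shear a (𝟙 G)).hom ≫ fst G X = fst G X := lift_fst _ _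
  have h2 : (GrpShear.shear a (𝟙 G)).hom ≫ snd G X = a.act := by
    rw [GrpShear.shear_hom_snd]; simp
  have h3 : (GrpShear.shear a (𝟙 G)).inv ≫ fst G X = fst G X := lift_fst _ _
  have h4 : (GrpShear.shear a (𝟙 G)).inv ≫ a.act = snd G X := by rw [← h2, Iso.inv_hom_id_assoc]
  ext y
  constructor
  · rintro ⟨z, ⟨hz1, hz2⟩, rfl⟩
    refine ⟨(GrpShear.shear a (𝟙 G)).hom.left z, ⟨?_, ?_⟩, ?_⟩
    · rw [Set.mem_preimage, ← Scheme.Hom.comp_apply, ← Over.comp_left, h1]; exact hz1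
    · rw [Set.mem_preimage, ← Scheme.Hom.comp_apply, ← Over.comp_left, Iso.hom_inv_id_assoc]; exact hz2
    · rw [← Scheme.Hom.comp_apply, ← Over.comp_left, h2]
  · rintro ⟨w, ⟨hw1, hw2⟩, rfl⟩
    refine ⟨(GrpShear.shear a (𝟙 G)).inv.left w, ⟨?_, ?_⟩, ?_⟩
    · rw [← Scheme.Hom.comp_apply, ← Over.comp_left, h3]; exact hw1
    · rw [← Scheme.Hom.comp_apply, ← Over.comp_left]; exact hw2
    · rw [← Scheme.Hom.comp_apply, ← Over.comp_left, h4]

theorem isOpen_orbitSet [LocallyOfFinitePresentation G.hom]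
    (hdim : IsLocallyConstant (fun s : S => topologicalKrullDim ↥(G.hom.base ⁻¹' {s}))) (U : X.left.Opens) :
    IsOpen (orbitSet a U) := by
  rw [orbitSet_eq]
  haveI : LocallyOfFinitePresentation (snd G X).left :=
    MorphismProperty.pullback_snd (P := @LocallyOfFinitePresentation) G.hom X.hom inferInstance
  have hind : ProCons.IsIndConstructible ((snd G X).left ''
      ((fst G X).left ⁻¹' SGA3x.neutralSet G ∩ ((GrpShear.shear a (𝟙 G)).inv ≫ snd G X).left ⁻¹' U)) :=
    ProConsLib.isIndConstructible_image _ (isIndConstructible_inter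
      (ProConsLib.isIndConstructible_preimage _ isIndConstructible_neutralSet)
      (ProConsLib.isIndConstructible_preimage _ (isIndConstructible_open U)))
  refine isOpen_iff_mem_nhds.2 fun y hy => mem_interior_iff_mem_nhds.1 ?_
  refine (ProConsLib.mem_interior_iff_forall_specializes hind y).2 fun y' hy' => ?_
  obtain ⟨w, ⟨hw1, hw2⟩, rfl⟩ := hy
  let GX := Red.bc X.hom G
  haveI : LocallyOfFinitePresentation GX.hom :=
    inferInstanceAs (LocallyOfFinitePresentation (pullback.snd G.hom X.hom))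
  have hwX : w ∈ SGA3x.neutralSet GX := by
    rw [neutralSet_bc]; exact hw1
  obtain ⟨ξ, hξw, hξ, hξy⟩ := exists_generization (G := GX) (y := (snd G X).left w) (y' := y') hy' (by
    rw [dim_bc, dim_bc]
    exact le_of_eq (eq_of_specializes hdim (hy'.map X.hom.continuous)).symm) hwX rfl
  rw [neutralSet_bc] at hξ
  exact ⟨ξ, ⟨hξ, hξw.mem_open (U.2.preimage ((GrpShear.shear a (𝟙 G)).inv ≫ snd G X).left.continuous) hw2⟩, hξy⟩

/-- Near points of `G⁰ · U` the closure of the diagonal is the diagonal. -/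
theorem mem_diag_of_mem_closure (U : X.left.Opens) [IsSeparated (U.ι ≫ X.hom)] {z : ↥(X ⊗ X).left}
    (huo : ∀ g ∈ SGA3x.neutralSet G, G.hom g = (X ⊗ X).hom z → EGA43.IsUnivOpenAt G.hom g)
    (h₁ : (fst X X).left z ∈ orbitSet a U) (h₂ : (snd X X).left z ∈ orbitSet a U)
    (hz : z ∈ closure (Set.range (lift (𝟙 X) (𝟙 X)).left)) : z ∈ Set.range (lift (𝟙 X) (𝟙 X)).left := by
  obtain ⟨K, _, t, y, hy⟩ := exists_fieldPt (Y := X ⊗ X) z
  let T := Over.mk t
  let pt : T.left := (IsLocalRing.closedPoint K : PrimeSpectrum K)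
  haveI : Subsingleton T.left := inferInstanceAs (Subsingleton (PrimeSpectrum K))
  obtain ⟨θ, hθ, hθ'⟩ := exists_top (G := G) t
  let act' : (T ⟶ X) → (G ⊗ T ⟶ X) := fun x => (G ◁ x) ≫ a.act
  have hin : ∀ x : T ⟶ X, x.left pt ∈ orbitSet a U → (act' x).left θ ∈ U := by
    rintro x ⟨w, ⟨hw1, hw2⟩, hw3⟩
    obtain ⟨q, hq, -⟩ := Scheme.Pullback.exists_preimage_pullback (f := a.act.left) (g := x.left) w pt hw3
    let P : Over S := Over.mk (pullback.fst a.act.left x.left ≫ (G ⊗ X).hom)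
    let k : P ⟶ G ⊗ X := Over.homMk (pullback.fst _ _)
    let r : P ⟶ T := Over.homMk (pullback.snd _ _) (by
      show pullback.snd _ _ ≫ T.hom = pullback.fst _ _ ≫ (G ⊗ X).hom
      rw [← Over.w x, ← Over.w a.act, ← pullback.condition_assoc])
    have hk : r ≫ x = k ≫ a.act := Over.OverMorphism.ext pullback.condition.symm
    have hkq : k.left q = w := hq
    let w' : ↥(G ⊗ T).left := (lift (k ≫ fst G X)⁻¹ r).left q
    have hθw : θ ⤳ w' := by
      refine (hθ' w').1 ?_
      rw [← Scheme.Hom.comp_apply, ← Over.comp_left, lift_fst]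
      refine inv_mem (k ≫ fst G X) q ?_
      rw [Over.comp_left, Scheme.Hom.comp_apply, hkq]
      exact hw1
    refine (hθw.map (act' x).left.continuous).mem_open U.2 ?_
    have e : lift (k ≫ fst G X)⁻¹ r ≫ act' x = k ≫ snd G X := by
      have e2 : k ≫ a.act = lift (k ≫ fst G X) (k ≫ snd G X) ≫ a.act := by
        rw [← comp_lift, lift_fst_snd, Category.comp_id]
      simp only [act', lift_whiskerLeft_assoc, hk, e2, ← GrpShear.lift_mul_act, inv_mul_cancel, GrpShear.lift_one_act]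
    show (act' x).left w' ∈ U
    rw [← Scheme.Hom.comp_apply, ← Over.comp_left, e, Over.comp_left, Scheme.Hom.comp_apply, hkq]
    exact hw2
  let x₁ := y ≫ fst X X
  let x₂ := y ≫ snd X X
  have hp₁ : (act' x₁).left θ ∈ U :=
    hin x₁ (by show (y ≫ fst X X).left pt ∈ _; rw [Over.comp_left, Scheme.Hom.comp_apply, hy]; exact h₁)
  have hp₂ : (act' x₂).left θ ∈ U :=
    hin x₂ (by show (y ≫ snd X X).left pt ∈ _; rw [Over.comp_left, Scheme.Hom.comp_apply, hy]; exact h₂)
  let Y : Over S := Over.mk ((G ⊗ T).left.fromSpecResidueField θ ≫ (G ⊗ T).hom)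
  let h : Y ⟶ G ⊗ T := Over.homMk ((G ⊗ T).left.fromSpecResidueField θ)
  haveI : IsReduced Y.left := inferInstanceAs (IsReduced (Spec ((G ⊗ T).left.residueField θ)))
  haveI : Subsingleton Y.left := inferInstanceAs (Subsingleton (PrimeSpectrum ((G ⊗ T).left.residueField θ)))
  let pY : Y.left := IsLocalRing.closedPoint ((G ⊗ T).left.residueField θ)
  have hh : ∀ q, h.left q = θ := fun q => Scheme.fromSpecResidueField_apply θ q
  let g := h ≫ fst G T
  let r := h ≫ snd G T
  have hgr : lift g r = h := by simp [g, r, ← comp_lift]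
  let gy₁ := lift g (r ≫ x₁) ≫ a.act
  let gy₂ := lift g (r ≫ x₂) ≫ a.act
  have hg₁ : gy₁ = h ≫ act' x₁ := by
    conv_rhs => rw [← hgr]
    simp [gy₁, act']
  have hg₂ : gy₂ = h ≫ act' x₂ := by
    conv_rhs => rw [← hgr]
    simp [gy₂, act']
  have hgpY : g.left pY ∈ SGA3x.neutralSet G := by
    show (h ≫ fst G T).left pY ∈ _
    rw [Over.comp_left, Scheme.Hom.comp_apply, hh]
    exact (hθ' θ).2 specializes_rfl
  have hry : (r ≫ y).left pY = z := by rw [Over.comp_left, Scheme.Hom.comp_apply, hy]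
  -- pushing the closure of the diagonal
  let Ψ : G ⊗ (X ⊗ X) ⟶ X ⊗ X :=
    lift (lift (fst _ _) (snd _ _ ≫ fst X X) ≫ a.act) (lift (fst _ _) (snd _ _ ≫ snd X X) ≫ a.act)
  have hΨ : lift g (r ≫ y) ≫ Ψ = lift gy₁ gy₂ := by
    simp only [Ψ, gy₁, gy₂, x₁, x₂, comp_lift, comp_lift_assoc, lift_fst, lift_snd_assoc, Category.assoc]
  have hmem : (lift gy₁ gy₂).left pY ∈ closure (Set.range (lift (𝟙 X) (𝟙 X)).left) := by
    rw [← hΨ, Over.comp_left, Scheme.Hom.comp_apply]
    let w := (lift g (r ≫ y)).left pY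
    have hwz : (snd G (X ⊗ X)).left w = z := by
      rw [← Scheme.Hom.comp_apply, ← Over.comp_left, lift_snd, hry]
    have hwg : (fst G (X ⊗ X)).left w = g.left pY := by
      rw [← Scheme.Hom.comp_apply, ← Over.comp_left, lift_fst]
    have hsq : IsPullback (fst G (X ⊗ X)).left (snd G (X ⊗ X)).left G.hom (X ⊗ X).hom :=
      IsPullback.of_hasPullback G.hom (X ⊗ X).hom
    have hopen : EGA43.IsOpenAt (snd G (X ⊗ X)).left.base w := by
      refine UOpenLib.IsUnivOpenAt.isOpenAt (huo _ hgpY ?_) hsq w hwg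
      exact (congrArg G.hom hwg.symm).trans (((Scheme.Hom.comp_apply _ _ _).symm.trans
        (congrArg (fun m : (G ⊗ (X ⊗ X)).left ⟶ S => m w) hsq.w)).trans
          ((Scheme.Hom.comp_apply _ _ _).trans (congrArg (X ⊗ X).hom hwz)))
    have h1 : w ∈ closure ((snd G (X ⊗ X)).left ⁻¹' Set.range (lift (𝟙 X) (𝟙 X)).left) := by
      refine mem_closure_iff_nhds.2 fun N hN => ?_
      have h := hopen N hN
      change (snd G (X ⊗ X)).left '' N ∈ nhds ((snd G (X ⊗ X)).left w) at h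
      rw [hwz] at h
      obtain ⟨_, ⟨v, hv, rfl⟩, hvE⟩ := mem_closure_iff_nhds.1 hz _ h
      exact ⟨v, hv, hvE⟩
    refine closure_mono ?_ (image_closure_subset_closure_image Ψ.left.continuous ⟨_, h1, rfl⟩)
    rintro _ ⟨v, ⟨x, hx⟩, rfl⟩
    obtain ⟨v', hv', -⟩ := Scheme.Pullback.exists_preimage_pullback (f := (snd G (X ⊗ X)).left)
      (g := (lift (𝟙 X) (𝟙 X)).left) v x hx.symm
    let P : Over S := Over.mk (pullback.fst (snd G (X ⊗ X)).left (lift (𝟙 X) (𝟙 X)).left ≫ (G ⊗ (X ⊗ X)).hom)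
    let k : P ⟶ G ⊗ (X ⊗ X) := Over.homMk (pullback.fst _ _)
    let xk : P ⟶ X := Over.homMk (pullback.snd _ _) (by
      show pullback.snd _ _ ≫ X.hom = pullback.fst _ _ ≫ (G ⊗ (X ⊗ X)).hom
      rw [← Over.w (snd G (X ⊗ X)), pullback.condition_assoc, Over.w (lift (𝟙 X) (𝟙 X))])
    have hk : k ≫ snd G (X ⊗ X) = xk ≫ lift (𝟙 X) (𝟙 X) := Over.OverMorphism.ext pullback.condition
    have hkΨ : k ≫ Ψ = (lift (k ≫ fst _ _) xk ≫ a.act) ≫ lift (𝟙 X) (𝟙 X) := by
      simp only [Ψ, comp_lift, comp_lift_assoc, Category.comp_id, reassoc_of% hk, lift_fst, lift_snd, Category.assoc]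
    refine ⟨(lift (k ≫ fst _ _) xk ≫ a.act).left v', ?_⟩
    rw [← Scheme.Hom.comp_apply, ← Over.comp_left, ← hkΨ, Over.comp_left, Scheme.Hom.comp_apply]
    exact congrArg Ψ.left hv'
  -- inside U
  let Uo : Over S := Over.mk (U.ι ≫ X.hom)
  let j : Uo ⟶ X := Over.homMk U.ι
  haveI : IsSeparated Uo.hom := inferInstanceAs (IsSeparated (U.ι ≫ X.hom))
  have hr : ∀ (b : G ⊗ T ⟶ X), b.left θ ∈ U → Set.range (h ≫ b).left ⊆ Set.range U.ι := by
    intro b hb
    rintro _ ⟨q, rfl⟩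
    rw [Scheme.Opens.range_ι, Over.comp_left, Scheme.Hom.comp_apply, hh]
    exact hb
  let v₁ : Y ⟶ Uo := Over.homMk (IsOpenImmersion.lift U.ι gy₁.left (hg₁ ▸ hr _ hp₁)) (by
    show _ ≫ U.ι ≫ X.hom = Y.hom
    rw [IsOpenImmersion.lift_fac_assoc, Over.w])
  let v₂ : Y ⟶ Uo := Over.homMk (IsOpenImmersion.lift U.ι gy₂.left (hg₂ ▸ hr _ hp₂)) (by
    show _ ≫ U.ι ≫ X.hom = Y.hom
    rw [IsOpenImmersion.lift_fac_assoc, Over.w])
  have hv₁ : v₁ ≫ j = gy₁ := Over.OverMorphism.ext (IsOpenImmersion.lift_fac _ _ _)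
  have hv₂ : v₂ ≫ j = gy₂ := Over.OverMorphism.ext (IsOpenImmersion.lift_fac _ _ _)
  haveI : IsOpenImmersion j.left := inferInstanceAs (IsOpenImmersion U.ι)
  haveI : IsOpenImmersion (j ⊗ₘ j).left := by
    have : (j ⊗ₘ j).left = pullback.map Uo.hom Uo.hom X.hom X.hom j.left j.left (𝟙 S) (by simp) (by simp) := by
      refine pullback.hom_ext ?_ ?_
      · rw [pullback.lift_fst]
        exact (congrArg CommaMorphism.left (tensorHom_fst j j))
      · rw [pullback.lift_snd]
        exact (congrArg CommaMorphism.left (tensorHom_snd j j))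
    rw [this]
    infer_instance
  haveI : IsClosedImmersion (lift (𝟙 Uo) (𝟙 Uo)).left := by
    show IsClosedImmersion (pullback.diagonal Uo.hom)
    infer_instance
  let jj := j ⊗ₘ j
  have hjj : lift v₁ v₂ ≫ jj = lift gy₁ gy₂ := by simp only [jj, lift_map, hv₁, hv₂]
  have hqU : (lift v₁ v₂).left pY ∈ Set.range (lift (𝟙 Uo) (𝟙 Uo)).left := by
    have h1 : (lift v₁ v₂).left pY ∈ closure (jj.left ⁻¹' Set.range (lift (𝟙 X) (𝟙 X)).left) := by
      refine jj.left.isOpenEmbedding.isOpenMap.preimage_closure_subset_closure_preimage ?_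
      rw [Set.mem_preimage, ← Scheme.Hom.comp_apply, ← Over.comp_left, hjj]
      exact hmem
    refine closure_minimal ?_ (lift (𝟙 Uo) (𝟙 Uo)).left.isClosedEmbedding.isClosed_range h1
    rintro v ⟨x, hx⟩
    have ex : (fst X X).left (jj.left v) = x := by
      rw [← hx, ← Scheme.Hom.comp_apply, ← Over.comp_left, lift_fst]
      rfl
    obtain ⟨xU, hxUeq⟩ : x ∈ Set.range j.left := by
      refine ⟨(fst Uo Uo).left v, ?_⟩
      rw [← ex, ← Scheme.Hom.comp_apply, ← Scheme.Hom.comp_apply, ← Over.comp_left, ← Over.comp_left, tensorHom_fst]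
    refine ⟨xU, jj.left.isOpenEmbedding.injective ?_⟩
    rw [← hx, ← hxUeq, ← Scheme.Hom.comp_apply, ← Scheme.Hom.comp_apply, ← Over.comp_left, ← Over.comp_left]
    simp [jj]
  have heq := HomogSep.eq_of_mem_range_diag v₁ v₂ pY hqU
  have hgy : gy₁ = gy₂ := by rw [← hv₁, ← hv₂, heq]
  have hcancel : ∀ x : Y ⟶ X, lift g⁻¹ (lift g x ≫ a.act) ≫ a.act = x := fun x => by
    rw [← GrpShear.lift_mul_act, inv_mul_cancel, GrpShear.lift_one_act]
  have hxx : r ≫ x₁ = r ≫ x₂ := by
    have h3 := congrArg (fun m => lift g⁻¹ m ≫ a.act) hgy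
    simpa only [gy₁, gy₂, hcancel] using h3
  refine ⟨(r ≫ x₁).left pY, ?_⟩
  rw [← Scheme.Hom.comp_apply, ← Over.comp_left, comp_lift, Category.comp_id]
  nth_rw 2 [hxx]
  have : lift (r ≫ x₁) (r ≫ x₂) = r ≫ y := by simp [x₁, x₂, ← comp_lift]
  rw [this, hry]

/-- `G⁰ · U` as an open subscheme. -/
def orbitOpen [LocallyOfFinitePresentation G.hom]
    (hdim : IsLocallyConstant (fun s : S => topologicalKrullDim ↥(G.hom.base ⁻¹' {s}))) (U : X.left.Opens) :
    X.left.Opens := ⟨orbitSet a U, isOpen_orbitSet a hdim U⟩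

/-- `G⁰ · U` is separated over the base. -/
theorem isSeparated_orbitSet [LocallyOfFinitePresentation G.hom]
    (hdim : IsLocallyConstant (fun s : S => topologicalKrullDim ↥(G.hom.base ⁻¹' {s}))) (U : X.left.Opens)
    [IsSeparated (U.ι ≫ X.hom)] : IsSeparated ((orbitOpen a hdim U).ι ≫ X.hom) := by
  let V : X.left.Opens := orbitOpen a hdim U
  let Vo : Over S := Over.mk (V.ι ≫ X.hom)
  let j : Vo ⟶ X := Over.homMk V.ι
  let jj := j ⊗ₘ j
  haveI : IsOpenImmersion j.left := inferInstanceAs (IsOpenImmersion V.ι)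
  have hcl : IsClosed (Set.range (lift (𝟙 Vo) (𝟙 Vo)).left) := by
    refine closure_subset_iff_isClosed.1 fun z hz => ?_
    have hjd : lift (𝟙 Vo) (𝟙 Vo) ≫ jj = j ≫ lift (𝟙 X) (𝟙 X) := by simp [jj, lift_map, comp_lift]
    have hz' : jj.left z ∈ closure (Set.range (lift (𝟙 X) (𝟙 X)).left) := by
      refine closure_mono ?_ (image_closure_subset_closure_image jj.left.continuous ⟨z, hz, rfl⟩)
      rintro _ ⟨_, ⟨v, rfl⟩, rfl⟩
      exact ⟨j.left v, by rw [← Scheme.Hom.comp_apply, ← Scheme.Hom.comp_apply, ← Over.comp_left, ← Over.comp_left, hjd]⟩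
    have hf : ∀ (p : X ⊗ X ⟶ X) (q : Vo ⊗ Vo ⟶ Vo), jj ≫ p = q ≫ j → p.left (jj.left z) ∈ orbitSet a U :=
      fun p q e => by
        rw [← Scheme.Hom.comp_apply, ← Over.comp_left, e, Over.comp_left, Scheme.Hom.comp_apply]
        exact ((q.left z).2 :)
    obtain ⟨x, hx⟩ := mem_diag_of_mem_closure a U
      (fun g hg _ => isUnivOpenAt_of_dim_const (V := {t | topologicalKrullDim ↥(G.hom.base ⁻¹' {t}) =
          topologicalKrullDim ↥(G.hom.base ⁻¹' {G.hom g})})
        ((hdim.isOpen_fiber _).mem_nhds rfl) (fun _ ht => ht) hg rfl)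
      (hf _ (fst Vo Vo) (tensorHom_fst j j)) (hf _ (snd Vo Vo) (tensorHom_snd j j)) hz'
    obtain ⟨v, hv⟩ : x ∈ Set.range j.left := by
      refine ⟨(fst Vo Vo).left z, ?_⟩
      have h := congrArg (fst X X).left hx
      rw [← Scheme.Hom.comp_apply, ← Scheme.Hom.comp_apply, ← Over.comp_left, ← Over.comp_left, lift_fst,
        tensorHom_fst, Over.comp_left, Scheme.Hom.comp_apply] at h
      exact h.symm
    haveI : IsOpenImmersion jj.left := by
      have : jj.left = pullback.map Vo.hom Vo.hom X.hom X.hom j.left j.left (𝟙 S) (by simp) (by simp) := by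
        refine pullback.hom_ext ?_ ?_
        · rw [pullback.lift_fst]
          exact (congrArg CommaMorphism.left (tensorHom_fst j j))
        · rw [pullback.lift_snd]
          exact (congrArg CommaMorphism.left (tensorHom_snd j j))
      rw [this]
      infer_instance
    refine ⟨v, jj.left.isOpenEmbedding.injective ?_⟩
    rw [← hx, ← hv, ← Scheme.Hom.comp_apply, ← Scheme.Hom.comp_apply, ← Over.comp_left, ← Over.comp_left, hjd]
  exact ⟨IsClosedImmersion.of_isPreimmersion (pullback.diagonal Vo.hom) hcl⟩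

end Groth.Agent.NeutralSch

namespace Groth.Agent.NeutralSch

variable {S : Scheme.{u}} {G : Over S} [GrpObj G]

theorem mem_orbitSet_self {x : G.left} (hx : x ∈ SGA3x.neutralSet G) (U : G.left.Opens) (he : us G (G.hom x) ∈ U) :
    x ∈ orbitSet (GrpShear.mulAction G) U := by
  refine ⟨(lift (𝟙 G) (1 : G ⟶ G)).left x, ⟨?_, ?_⟩, ?_⟩
  · show ((fst G G).left ((lift (𝟙 G) (1 : G ⟶ G)).left x)) ∈ _
    rw [← Scheme.Hom.comp_apply, ← Over.comp_left, lift_fst]
    exact hx
  · show ((snd G G).left ((lift (𝟙 G) (1 : G ⟶ G)).left x)) ∈ _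
    rw [← Scheme.Hom.comp_apply, ← Over.comp_left, lift_snd, one_left_apply]
    exact he
  · show (GrpShear.mulAction G).act.left ((lift (𝟙 G) (1 : G ⟶ G)).left x) = x
    rw [← Scheme.Hom.comp_apply, ← Over.comp_left]
    simp [GrpShear.mulAction, ← Hom.mul_def]

/-- An affine open over an affine open is separated over the base. -/
theorem isSeparated_of_affine {W : G.left.Opens} (hW : IsAffineOpen W) {V : S.Opens}
    (hWV : W ≤ G.hom ⁻¹ᵁ V) : IsSeparated (W.ι ≫ G.hom) := by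
  haveI : IsAffine W.toScheme := hW
  haveI : IsSeparated (G.hom.resLE V W hWV) := inferInstance
  rw [← Scheme.Hom.resLE_comp_ι G.hom hWV]
  infer_instance

theorem mem_diag_of_neutral (z : ↥(G ⊗ G).left)
    (huo : ∀ g ∈ SGA3x.neutralSet G, G.hom g = (G ⊗ G).hom z → EGA43.IsUnivOpenAt G.hom g)
    (h₁ : (fst G G).left z ∈ SGA3x.neutralSet G) (h₂ : (snd G G).left z ∈ SGA3x.neutralSet G)
    (hz : z ∈ closure (Set.range (lift (𝟙 G) (𝟙 G)).left)) : z ∈ Set.range (lift (𝟙 G) (𝟙 G)).left := by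
  obtain ⟨V, W, hV, hs, hW, hWV, hu⟩ := exists_chart G ((G ⊗ G).hom z)
  haveI := isSeparated_of_affine hW hWV
  have hp : ∀ p : G ⊗ G ⟶ G, G.hom (p.left z) = (G ⊗ G).hom z := fun p => by
    rw [← Scheme.Hom.comp_apply, Over.w]
  refine mem_diag_of_mem_closure (GrpShear.mulAction G) W huo (mem_orbitSet_self h₁ W ?_) (mem_orbitSet_self h₂ W ?_) hz
  · rw [hp]; exact hu _ hs
  · rw [hp]; exact hu _ hs

theorem isClosed_coincidence {T : Over S} (σ τ : T ⟶ G)
    (huo : ∀ g ∈ SGA3x.neutralSet G, EGA43.IsUnivOpenAt G.hom g)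
    (hσ : ∀ q, σ.left q ∈ SGA3x.neutralSet G) (hτ : ∀ q, τ.left q ∈ SGA3x.neutralSet G) :
    IsClosed ((lift σ τ).left ⁻¹' Set.range (lift (𝟙 G) (𝟙 G)).left) := by
  refine isClosed_of_closure_subset fun q hq => mem_diag_of_neutral _ (fun g hg _ => huo g hg) ?_ ?_
    ((lift σ τ).left.continuous.closure_preimage_subset _ hq)
  · rw [← Scheme.Hom.comp_apply, ← Over.comp_left, lift_fst]; exact hσ q
  · rw [← Scheme.Hom.comp_apply, ← Over.comp_left, lift_snd]; exact hτ q

end Groth.Agent.NeutralSch
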