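import Groth.Agent.NeutralSchLib.Global
import Groth.Agent.SecNhdLib.Smooth
import Groth.Agent.NoethApproxLib.Proper
import Groth.Agent.S0115
import Groth.Agent.WeilResLib.Transporter

/-!
# The neutral component of a group smooth along its unit section
-/

set_option autoImplicit false
set_option backward.isDefEq.respectTransparency false
set_option maxHeartbeats 800000

noncomputable section

universe u

open CategoryTheory CategoryTheory.Limits MonoidalCategory CartesianMonoidalCategory AlgebraicGeometry Topology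
open scoped MonObj
open Groth.Agent.HomogDense Groth.Agent.GrpField

namespace Groth.Agent.NeutralSch

variable {S : Scheme.{u}} {G : Over S} [GrpObj G]

theorem exists_chart_bc' (U : G.left.Opens) (hU : ∀ t, us G t ∈ U) (s : S) :
    ∃ V : S.Opens, IsAffineOpen V ∧ s ∈ V ∧
      ∃ W : (Red.bc V.ι G).left.Opens, IsAffineOpen W ∧ (∀ t, us (Red.bc V.ι G) t ∈ W) ∧
        W ≤ pullback.fst G.hom V.ι ⁻¹ᵁ U := by
  obtain ⟨V₀, hV₀, hs, -⟩ := exists_isAffineOpen_mem_and_subset (X := S) (x := s) (U := ⊤) trivial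
  have hπ : ∀ t, G.hom (us G t) = t := SecCompLib.apply_section (us_fac G)
  obtain ⟨W₀, hW₀, hsW, hWV⟩ := exists_isAffineOpen_mem_and_subset (X := G.left) (x := us G s)
    (U := U ⊓ G.hom ⁻¹ᵁ V₀) ⟨hU s, show G.hom (us G s) ∈ V₀ from (hπ s).symm ▸ hs⟩
  obtain ⟨f, hfW, hsf⟩ := hV₀.exists_basicOpen_le (V := us G ⁻¹ᵁ W₀) ⟨s, hsW⟩ hs
  have hWV' : W₀ ≤ G.hom ⁻¹ᵁ V₀ := fun x hx => (hWV hx).2
  let V := S.basicOpen f
  let W₁ := W₀ ⊓ G.hom ⁻¹ᵁ V
  have hW₁ : IsAffineOpen W₁ := by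
    have e : W₀ ⊓ G.hom ⁻¹ᵁ V = G.left.basicOpen ((G.hom.appLE V₀ W₀ hWV').hom f) := by
      rw [Scheme.basicOpen_appLE]
    show IsAffineOpen (W₀ ⊓ G.hom ⁻¹ᵁ V)
    rw [e]; exact hW₀.basicOpen _
  refine ⟨V, hV₀.basicOpen f, hsf, pullback.fst G.hom V.ι ⁻¹ᵁ W₁,
    hW₁.preimage_of_isOpenImmersion _ ?_, fun t => ?_, fun x hx => (hWV hx.1).1⟩
  · intro x hx
    show x ∈ Set.range (pullback.fst G.hom V.ι)
    rw [IsOpenImmersion.range_pullbackFst]
    exact (Scheme.Opens.opensRange_ι V).symm ▸ hx.2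
  · show pullback.fst G.hom V.ι (us (Red.bc V.ι G) t) ∈ W₁
    refine (congrArg (· ∈ W₁) ((Scheme.Hom.comp_apply _ _ _).symm.trans ?_)).mpr
      (show us G t.1 ∈ W₁ from ⟨hfW t.2, show G.hom (us G t.1) ∈ V from (hπ t.1).symm ▸ t.2⟩)
    rw [bc_unit_fst G V.ι]
    rfl

theorem smooth_local [IsAffine S] {W : G.left.Opens} (hW : IsAffineOpen W) (hu : ∀ t, us G t ∈ W)
    [Smooth (W.ι ≫ G.hom)] : IsOpen (SGA3x.neutralSet G) ∧ IsCompact (SGA3x.neutralSet G) ∧
      ∀ O : G.left.Opens, (O : Set G.left) = SGA3x.neutralSet G → Smooth (O.ι ≫ G.hom) := by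
  haveI : IsAffine W.toScheme := hW
  have hopen : IsOpen (MoreMor.sectionComponents (W.ι ≫ G.hom) (gW G W hu)) :=
    SecNhdLib.isOpen_sectionComponents_of_smooth _ _ (gW_fac G W hu)
  have hcpt : IsCompact (MoreMor.sectionComponents (W.ι ≫ G.hom) (gW G W hu)) :=
    NoethApproxLib.isCompact_of_isConstructible_scheme
      (GISpreadLib.isLocallyConstructible_sectionComponents _ _ (gW_fac G W hu)).isConstructible
  let C₀ : W.toScheme.Opens := ⟨_, hopen⟩
  haveI : CompactSpace C₀.toScheme := isCompact_iff_compactSpace.1 hcpt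
  let C : Over S := Over.mk ((C₀.ι ≫ W.ι) ≫ G.hom)
  let j : C ⟶ G := Over.homMk (C₀.ι ≫ W.ι)
  haveI : IsOpenImmersion j.left := inferInstanceAs (IsOpenImmersion (C₀.ι ≫ W.ι))
  haveI : Smooth C.hom := by
    show Smooth ((C₀.ι ≫ W.ι) ≫ G.hom)
    rw [Category.assoc]
    infer_instance
  have hr : Set.range j.left = SGA3x.neutralSet G ∩ W := by
    show Set.range (C₀.ι ≫ W.ι) = _
    rw [Scheme.Hom.comp_base, TopCat.coe_comp, Set.range_comp, Scheme.Opens.range_ι]
    show W.ι '' MoreMor.sectionComponents _ _ = _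
    rw [← preimage_neutralSet G W hu, Set.image_preimage_eq_inter_range, Scheme.Opens.range_ι]
  let m : C ⊗ C ⟶ G := (j ⊗ₘ j) ≫ μ[G]
  haveI : Smooth ((j ▷ G) ≫ μ[G]).left :=
    GrpShear.act_left_prop (GrpShear.mulAction G) @Smooth j ‹Smooth C.hom›
  haveI := FinHom.isOpenImmersion_whiskerLeft C j
  have hm : m.left = (C ◁ j).left ≫ ((j ▷ G) ≫ μ[G]).left := by
    rw [← Over.comp_left, ← Category.assoc, ← tensorHom_def']
  haveI : Smooth m.left := by rw [hm]; infer_instance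
  have hrange : Set.range m.left = SGA3x.neutralSet G := by
    refine Set.Subset.antisymm ?_ fun x hx => ?_
    · rintro _ ⟨v, rfl⟩
      rw [Over.comp_left, Scheme.Hom.comp_apply]
      refine mem_of_mu _ ?_ ?_
      · rw [← Scheme.Hom.comp_apply, ← Over.comp_left, tensorHom_fst, Over.comp_left, Scheme.Hom.comp_apply]
        exact (hr.le ⟨_, rfl⟩).1
      · rw [← Scheme.Hom.comp_apply, ← Over.comp_left, tensorHom_snd, Over.comp_left, Scheme.Hom.comp_apply]
        exact (hr.le ⟨_, rfl⟩).1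
    · obtain ⟨z, h1, h2, h3, h4, h5⟩ := exists_mul (G := G) hx W.2 (hu _)
      obtain ⟨v, hv⟩ := GrpField.exists_preimage_tensor j j z (hr.ge ⟨h2, h1⟩) (hr.ge ⟨h4, h3⟩)
      exact ⟨v, by rw [Over.comp_left, Scheme.Hom.comp_apply, hv, h5]⟩
  refine ⟨hrange ▸ m.left.isOpenMap.isOpen_range, ?_, fun O hO => ?_⟩
  · haveI : CompactSpace C.left := ‹CompactSpace C₀.toScheme›
    haveI : QuasiCompact C.hom := quasiCompact_iff_compactSpace _ |>.2 inferInstance
    haveI : QuasiCompact (pullback.snd C.hom C.hom) := MorphismProperty.pullback_snd _ _ inferInstance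
    haveI : CompactSpace ↥(C ⊗ C).left := QuasiCompact.compactSpace_of_compactSpace (pullback.snd C.hom C.hom)
    exact hrange ▸ isCompact_range m.left.continuous
  · let m' : (C ⊗ C).left ⟶ O.toScheme := IsOpenImmersion.lift O.ι m.left (by
      rw [Scheme.Opens.range_ι, hrange, hO])
    have hm' : m' ≫ O.ι = m.left := IsOpenImmersion.lift_fac _ _ _
    haveI : Smooth (m' ≫ O.ι) := by rw [hm']; infer_instance
    haveI : Smooth m' := MorphismProperty.of_postcomp @Smooth m' O.ι (inferInstance : IsOpenImmersion O.ι) ‹_›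
    haveI : Surjective m' := ⟨fun o => by
      obtain ⟨v, hv⟩ : O.ι o ∈ Set.range m.left := hrange.ge (hO.le o.2)
      exact ⟨v, O.ι.isOpenEmbedding.injective (by rw [← Scheme.Hom.comp_apply, hm', hv])⟩⟩
    haveI : Smooth (m' ≫ O.ι ≫ G.hom) := by
      rw [← Category.assoc, hm', Over.w m]
      show Smooth (pullback.fst C.hom C.hom ≫ C.hom)
      haveI : Smooth (pullback.fst C.hom C.hom) := MorphismProperty.pullback_fst _ _ inferInstance
      infer_instance
    exact Groth.Agent.S0115.result m' (O.ι ≫ G.hom)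

theorem exists_smooth_neutralComponent (U : G.left.Opens) (hU : ∀ t, us G t ∈ U) [Smooth (U.ι ≫ G.hom)] :
    IsOpen (SGA3x.neutralSet G) ∧ ∃ (G0 : Over S) (_ : GrpObj G0) (i : G0 ⟶ G), IsMonHom i ∧
      IsOpenImmersion i.left ∧ Set.range i.left.base = SGA3x.neutralSet G ∧ Smooth G0.hom ∧ QuasiCompact G0.hom := by
  choose V hV hs W hW hu hWU using exists_chart_bc' U hU
  have hloc : ∀ s, IsOpen (SGA3x.neutralSet (Red.bc (V s).ι G)) ∧ IsCompact (SGA3x.neutralSet (Red.bc (V s).ι G)) ∧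
      ∀ O : (Red.bc (V s).ι G).left.Opens, (O : Set _) = SGA3x.neutralSet (Red.bc (V s).ι G) →
        Smooth (O.ι ≫ (Red.bc (V s).ι G).hom) := fun s => by
    haveI : IsAffine (V s).toScheme := hV s
    let p := pullback.fst G.hom (V s).ι
    haveI : Smooth ((W s).ι ≫ (Red.bc (V s).ι G).hom) := by
      let l : (W s).toScheme ⟶ U.toScheme := IsOpenImmersion.lift U.ι ((W s).ι ≫ p) (by
        rw [Scheme.Opens.range_ι]; rintro _ ⟨w, rfl⟩; exact hWU s w.2)
      have hl : l ≫ U.ι = (W s).ι ≫ p := IsOpenImmersion.lift_fac _ _ _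
      haveI : IsOpenImmersion (l ≫ U.ι) := by rw [hl]; infer_instance
      haveI : IsOpenImmersion l := IsOpenImmersion.of_comp l U.ι
      haveI : Smooth (((W s).ι ≫ (Red.bc (V s).ι G).hom) ≫ (V s).ι) := by
        show Smooth (((W s).ι ≫ pullback.snd G.hom (V s).ι) ≫ (V s).ι)
        rw [Category.assoc, ← pullback.condition, ← Category.assoc, ← hl, Category.assoc]
        infer_instance
      exact MorphismProperty.of_postcomp @Smooth _ (V s).ι (inferInstance : IsOpenImmersion (V s).ι) ‹_›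
    exact smooth_local (hW s) (hu s)
  have hmem : ∀ x : G.left, x ∈ Set.range (pullback.fst G.hom (V (G.hom x)).ι) := fun x => by
    rw [IsOpenImmersion.range_pullbackFst, Scheme.Opens.opensRange_ι]
    exact hs (G.hom x)
  have hopen : IsOpen (SGA3x.neutralSet G) := by
    refine isOpen_iff_forall_mem_open.2 fun x hx => ?_
    refine ⟨(pullback.fst G.hom (V (G.hom x)).ι) '' SGA3x.neutralSet (Red.bc (V (G.hom x)).ι G), ?_,
      (pullback.fst G.hom (V (G.hom x)).ι).isOpenEmbedding.isOpenMap _ (hloc _).1, ?_⟩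
    · rw [Set.image_subset_iff, neutralSet_bc]
    · obtain ⟨w, hw⟩ := hmem x
      exact ⟨w, by rw [neutralSet_bc]; exact (congrArg (· ∈ SGA3x.neutralSet G) hw).mpr hx, hw⟩
  let O : G.left.Opens := ⟨_, hopen⟩
  let i : Over.mk (O.ι ≫ G.hom) ⟶ G := Over.homMk O.ι rfl
  haveI : Mono i := (Over.forget _).mono_of_mono_map (inferInstanceAs (Mono O.ι))
  have hfac : ∀ {Y : Over S} (g : Y ⟶ G), (∃ z, z ≫ i = g) ↔ ∀ y, g.left y ∈ SGA3x.neutralSet G := fun {Y} g => by
    refine ⟨?_, fun h => ?_⟩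
    · rintro ⟨z, rfl⟩ y
      rw [Over.comp_left, Scheme.Hom.comp_apply]
      exact ((z.left y).2 :)
    · let l := IsOpenImmersion.lift O.ι g.left (by rw [Scheme.Opens.range_ι]; rintro _ ⟨y, rfl⟩; exact h y)
      refine ⟨Over.homMk l ?_, by ext1; exact IsOpenImmersion.lift_fac _ _ _⟩
      show l ≫ O.ι ≫ G.hom = Y.hom
      rw [IsOpenImmersion.lift_fac_assoc, Over.w]
  obtain ⟨hg, hmon⟩ := WeilRes.exists_grpObj_of_pred i (fun {Y} g => ∀ y, g.left y ∈ SGA3x.neutralSet G) hfac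
    (fun y => by rw [one_left_apply]; exact us_mem _)
    (fun a b ha hb y => mul_mem a b y (ha y) (hb y)) (fun a ha y => inv_mem a y (ha y))
  have hcov : iSup V = (⊤ : S.Opens) := TopologicalSpace.Opens.ext (Set.eq_univ_of_forall
      fun s => by simp only [TopologicalSpace.Opens.coe_iSup, Set.mem_iUnion]; exact ⟨s, hs s⟩)
  have hpiece : ∀ s, Smooth ((O.ι ≫ G.hom) ∣_ V s) ∧ QuasiCompact ((O.ι ≫ G.hom) ∣_ V s) := fun s => by
    haveI : IsAffine (V s).toScheme := hV s
    let p := pullback.fst G.hom (V s).ι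
    let Os : (Red.bc (V s).ι G).left.Opens := p ⁻¹ᵁ O
    have hOs : (Os : Set ↥(Red.bc (V s).ι G).left) = SGA3x.neutralSet (Red.bc (V s).ι G) :=
      (neutralSet_bc (G := G) (V s).ι).symm
    haveI : Smooth (Os.ι ≫ pullback.snd G.hom (V s).ι) := (hloc s).2.2 Os hOs
    haveI : CompactSpace Os.toScheme := isCompact_iff_compactSpace.1 (hOs ▸ (hloc s).2.1)
    haveI : QuasiCompact (Os.ι ≫ pullback.snd G.hom (V s).ι) := (quasiCompact_iff_compactSpace _).2 inferInstance
    have sq2 : IsPullback (p ∣_ O) (Os.ι ≫ pullback.snd G.hom (V s).ι) (O.ι ≫ G.hom) (V s).ι :=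
      (isPullback_morphismRestrict p O).paste_vert (IsPullback.of_hasPullback G.hom (V s).ι)
    have sq3 := (isPullback_morphismRestrict (O.ι ≫ G.hom) (V s)).flip
    rw [← sq3.isoIsPullback_hom_snd _ _ sq2]
    exact ⟨inferInstance, inferInstance⟩
  refine ⟨hopen, _, hg, i, hmon, inferInstanceAs (IsOpenImmersion O.ι), Scheme.Opens.range_ι O, ?_, ?_⟩
  · show Smooth (O.ι ≫ G.hom)
    exact IsZariskiLocalAtTarget.of_iSup_eq_top (P := @Smooth) V hcov fun s => (hpiece s).1
  · show QuasiCompact (O.ι ≫ G.hom)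
    exact IsZariskiLocalAtTarget.of_iSup_eq_top (P := @QuasiCompact) V hcov fun s => (hpiece s).2

end Groth.Agent.NeutralSch
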